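/-
Eichler transformations of an alternating bilinear form and transitivity of the isometries fixing the orthogonal
complement of a nondegenerate subspace.
-/
import Mathlib

set_option autoImplicit false

namespace CfsgLib.SpAmalgam

open LinearMap (BilinForm)

variable {F V : Type*} [Field F] [AddCommGroup V] [Module F V] {ω : BilinForm F V}

theorem alt_swap (hω : ω.IsAlt) (u v : V) : ω u v = -ω v u := (LinearMap.IsAlt.neg hω v u).symm

variable (ω) in
/-- The map `y ↦ y + ω(a,y)b + ω(b,y)a + tω(a,y)a`. -/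
def eich (a b : V) (t : F) : V →ₗ[F] V :=
  LinearMap.id + (ω a).smulRight b + (ω b).smulRight a + (t • ω a).smulRight a

theorem eich_apply (a b : V) (t : F) (y : V) :
    eich ω a b t y = y + ω a y • b + ω b y • a + (t * ω a y) • a := rfl

theorem eich_zero (a y : V) : eich ω a 0 0 y = y := by simp [eich_apply]

theorem eich_mul (hω : ω.IsAlt) {a b b' : V} (t t' : F) (hb : ω a b = 0) (hb' : ω a b' = 0) (y : V) :
    eich ω a b t (eich ω a b' t' y) = eich ω a (b + b') (t + t' + ω b b') y := by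
  have h1 : ω b a = 0 := by rw [alt_swap hω, hb, neg_zero]
  simp only [eich_apply, map_add, map_smul, hω a, hb', h1, LinearMap.add_apply, mul_zero,
    add_mul, smul_add, add_smul]
  module

theorem eich_inv (hω : ω.IsAlt) {a b : V} (t : F) (hb : ω a b = 0) (y : V) :
    eich ω a b t (eich ω a (-b) (-t) y) = y ∧ eich ω a (-b) (-t) (eich ω a b t y) = y := by
  constructor <;>
  · rw [eich_mul hω _ _ (by simp [hb]) (by simp [hb])]
    simp [eich_apply, hω b]

theorem eich_smul_arg (a b : V) (c t : F) (y : V) :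
    eich ω (c • a) b t y = eich ω a (c • b) (c * c * t) y := by
  simp only [eich_apply, map_smul, LinearMap.smul_apply, smul_eq_mul, smul_smul]
  module

theorem eich_preserves (hω : ω.IsAlt) {a b : V} (t : F) (hb : ω a b = 0) (x y : V) :
    ω (eich ω a b t x) (eich ω a b t y) = ω x y := by
  have h1 : ω b a = 0 := by rw [alt_swap hω, hb, neg_zero]
  simp only [eich_apply, map_add, map_smul, LinearMap.add_apply, LinearMap.smul_apply, hω a, hω b, hb, h1,
    smul_eq_mul, alt_swap hω x a, alt_swap hω x b]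
  ring

/-- The Eichler transformation as an equivalence. -/
def eichEquiv (hω : ω.IsAlt) (a b : V) (t : F) (hb : ω a b = 0) : V ≃ₗ[F] V :=
  { eich ω a b t with
    invFun := eich ω a (-b) (-t)
    left_inv := fun y => (eich_inv hω t hb y).2
    right_inv := fun y => (eich_inv hω t hb y).1 }

theorem eichEquiv_apply (hω : ω.IsAlt) (a b : V) (t : F) (hb : ω a b = 0) (y : V) :
    eichEquiv hω a b t hb y = eich ω a b t y := rfl

variable (ω) in
/-- Isometries fixing the orthogonal complement of `W`. -/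
def FixIsom (W : Submodule F V) (g : V ≃ₗ[F] V) : Prop :=
  (∀ x y, ω (g x) (g y) = ω x y) ∧ (∀ y, (∀ w ∈ W, ω w y = 0) → g y = y) ∧ ∀ w ∈ W, g w ∈ W

theorem FixIsom.trans {W : Submodule F V} {g h : V ≃ₗ[F] V} (hg : FixIsom ω W g) (hh : FixIsom ω W h) :
    FixIsom ω W (g.trans h) :=
  ⟨fun x y => by simp [hh.1, hg.1], fun y hy => by simp [hg.2.1 y hy, hh.2.1 y hy],
    fun w hw => hh.2.2 _ (hg.2.2 w hw)⟩

theorem FixIsom.mono {W W' : Submodule F V} (h : W ≤ W') (hp : ∀ y, ∃ p ∈ W, ∀ w ∈ W, ω w (y - p) = 0)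
    {g : V ≃ₗ[F] V} (hg : FixIsom ω W g) : FixIsom ω W' g := by
  refine ⟨hg.1, fun y hy => hg.2.1 y fun w hw => hy w (h hw), fun y hy => ?_⟩
  obtain ⟨p, hp, hp'⟩ := hp y
  have := hg.2.1 _ hp'
  rw [map_sub] at this
  have e : g y = g p + (y - p) := by rw [← this]; abel
  rw [e]
  exact add_mem (h (hg.2.2 p hp)) (sub_mem hy (h hp))

theorem fixIsom_refl (W : Submodule F V) : FixIsom ω W (LinearEquiv.refl F V) :=
  ⟨fun _ _ => rfl, fun _ _ => rfl, fun _ h => h⟩

theorem fixIsom_eich (hω : ω.IsAlt) {W : Submodule F V} {a b : V} (t : F) (hb : ω a b = 0) (ha : a ∈ W)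
    (hb' : b ∈ W) : FixIsom ω W (eichEquiv hω a b t hb) :=
  ⟨eich_preserves hω t hb, fun y hy => by simp [eichEquiv_apply, eich_apply, hy a ha, hy b hb'],
    fun w hw => add_mem (add_mem (add_mem hw (W.smul_mem _ hb')) (W.smul_mem _ ha)) (W.smul_mem _ ha)⟩

/-- A transvection moving `u` to `v`. -/
theorem exists_fix_move (hω : ω.IsAlt) {W : Submodule F V} {u v : V} (hu : u ∈ W) (hv : v ∈ W)
    (h : ω u v ≠ 0) : ∃ g, FixIsom ω W g ∧ g u = v ∧ ∀ z, ω (v - u) z = 0 → g z = z := by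
  refine ⟨eichEquiv hω (v - u) 0 (ω (v - u) u)⁻¹ (by simp), fixIsom_eich hω _ _ (sub_mem hv hu) W.zero_mem,
    ?_, fun z hz => by
      simp only [eichEquiv_apply, eich_apply, hz, mul_zero, zero_smul, smul_zero, map_zero,
        LinearMap.zero_apply, add_zero]⟩
  have h1 : ω (v - u) u ≠ 0 := by
    rw [map_sub, LinearMap.sub_apply, hω u, sub_zero, alt_swap hω, neg_ne_zero]; exact h
  simp only [eichEquiv_apply, eich_apply, inv_mul_cancel₀ h1, one_smul, smul_zero, map_zero,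
    LinearMap.zero_apply, zero_smul, add_zero, add_sub_cancel]

/-- Isometries of a nondegenerate `W` are transitive on nonzero vectors. -/
theorem exists_fix_transitive (hω : ω.IsAlt) {W : Submodule F V}
    (hW : ∀ w ∈ W, (∀ w' ∈ W, ω w w' = 0) → w = 0) {u v : V} (hu : u ∈ W) (hv : v ∈ W) (hu0 : u ≠ 0)
    (hv0 : v ≠ 0) : ∃ g, FixIsom ω W g ∧ g u = v := by
  by_cases h : ω u v ≠ 0
  · obtain ⟨g, h1, h2, -⟩ := exists_fix_move hω hu hv h
    exact ⟨g, h1, h2⟩
  rw [not_not] at h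
  have hu' : ∃ z ∈ W, ω u z ≠ 0 := by
    by_contra hc; push Not at hc; exact hu0 (hW u hu hc)
  have hv' : ∃ z ∈ W, ω z v ≠ 0 := by
    by_contra hc; push Not at hc
    exact hv0 (hW v hv fun z hz => by rw [alt_swap hω, hc z hz, neg_zero])
  obtain ⟨z₁, hz₁, h₁⟩ := hu'
  obtain ⟨z₂, hz₂, h₂⟩ := hv'
  obtain ⟨z, hz, hz1, hz2⟩ : ∃ z ∈ W, ω u z ≠ 0 ∧ ω z v ≠ 0 := by
    by_cases h3 : ω z₁ v ≠ 0
    · exact ⟨z₁, hz₁, h₁, h3⟩
    by_cases h4 : ω u z₂ ≠ 0
    · exact ⟨z₂, hz₂, h4, h₂⟩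
    rw [not_not] at h3 h4
    exact ⟨z₁ + z₂, add_mem hz₁ hz₂, by simp [h4, h₁], by simp [h3, h₂]⟩
  obtain ⟨g, g1, g2, -⟩ := exists_fix_move hω hu hz hz1
  obtain ⟨g', g1', g2', -⟩ := exists_fix_move hω hz hv hz2
  exact ⟨g.trans g', g1.trans g1', by simp [g2, g2']⟩

/-- Isometries of a nondegenerate `W` are transitive on pairs with given product. -/
theorem exists_fix_pair (hω : ω.IsAlt) {W : Submodule F V}
    (hW : ∀ w ∈ W, (∀ w' ∈ W, ω w w' = 0) → w = 0) {e f v u : V} (he : e ∈ W) (hf : f ∈ W) (hef : ω e f = 1)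
    (hv : v ∈ W) (hu : u ∈ W) (hvu : ω v u ≠ 0) :
    ∃ g, FixIsom ω W g ∧ g e = v ∧ g (ω v u • f) = u := by
  have he0 : e ≠ 0 := by rintro rfl; simp at hef
  have hv0 : v ≠ 0 := by rintro rfl; simp at hvu
  obtain ⟨g, hg, hge⟩ := exists_fix_transitive hω hW he hv he0 hv0
  set b := ω v u with hb
  set u₀ := g (b • f) with hu₀
  have hvu₀ : ω v u₀ = b := by rw [hu₀, ← hge, hg.1, map_smul, smul_eq_mul, hef, mul_one]
  have hfix : ∀ a c : V, a ∈ W → c ∈ W → ω v a = b → ω v c = b → ω a c ≠ 0 →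
      ∃ h, FixIsom ω W h ∧ h a = c ∧ h v = v := by
    intro a c ha hc hva hvc hac
    obtain ⟨h, h1, h2, h3⟩ := exists_fix_move hω ha hc hac
    refine ⟨h, h1, h2, h3 v ?_⟩
    rw [alt_swap hω, map_sub, hva, hvc, sub_self, neg_zero]
  suffices hs : ∀ a, a ∈ W → ω v a = b → ∃ h, FixIsom ω W h ∧ h a = u ∧ h v = v from by
    obtain ⟨h, h1, h2, h3⟩ := hs u₀ (hg.2.2 _ (W.smul_mem b hf)) hvu₀
    exact ⟨g.trans h, hg.trans h1, by simp [hge, h3], by simpa [hu₀] using h2⟩
  intro a ha hva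
  by_cases h : ω a u ≠ 0
  · exact hfix a u ha hu hva hb.symm h
  rw [not_not] at h
  have hz : ω v (a + v) = b := by rw [map_add, hva, hω v, add_zero]
  have h1 : ω a (a + v) ≠ 0 := by
    rw [map_add, hω a, zero_add, alt_swap hω, hva, neg_ne_zero]; exact hvu
  have h2 : ω (a + v) u ≠ 0 := by simpa [h] using hvu
  obtain ⟨k, k1, k2, k3⟩ := hfix a (a + v) ha (add_mem ha hv) hva hz h1
  obtain ⟨k', k1', k2', k3'⟩ := hfix (a + v) u (add_mem ha hv) hu hz hb.symm h2
  exact ⟨k.trans k', k1.trans k1', by simp [k2, k2'], by simp [k3, k3']⟩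

end CfsgLib.SpAmalgam
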