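/-
One step of the amalgam argument for symplectic groups: the data, the translations `q` and the stabiliser of a
vector.
-/
import Cfsg.Agent.Lib.SpAmalgam.Eichler

set_option autoImplicit false

namespace CfsgLib.SpAmalgam

open LinearMap (BilinForm)

variable {F V E : Type*} [Field F] [AddCommGroup V] [Module F V] [Group E]

/-- `g` acts as an Eichler transformation. -/
def Acts (ρ : E →* (V ≃ₗ[F] V)) (ω : BilinForm F V) (g : E) (a b : V) (t : F) : Prop :=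
  ∀ y, ρ g y = eich ω a b t y

/-- `ρ` separates the elements of `K`. -/
def Inj (ρ : E →* (V ≃ₗ[F] V)) (K : Subgroup E) : Prop := ∀ k ∈ K, (∀ y, ρ k y = y) → k = 1

theorem ρ_mul (ρ : E →* (V ≃ₗ[F] V)) (g h : E) (y : V) : ρ (g * h) y = ρ g (ρ h y) := by rw [map_mul]; rfl

theorem ρ_one (ρ : E →* (V ≃ₗ[F] V)) (y : V) : ρ 1 y = y := by rw [map_one]; rfl

theorem ρ_inv (ρ : E →* (V ≃ₗ[F] V)) (g : E) (y : V) : ρ g⁻¹ (ρ g y) = y := by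
  rw [← ρ_mul, inv_mul_cancel, ρ_one]

theorem ρ_inv' (ρ : E →* (V ≃ₗ[F] V)) (g : E) (y : V) : ρ g (ρ g⁻¹ y) = y := by
  rw [← ρ_mul, mul_inv_cancel, ρ_one]

theorem ρ_inv_fix (ρ : E →* (V ≃ₗ[F] V)) {g : E} {y : V} (h : ρ g y = y) : ρ g⁻¹ y = y := by
  conv_lhs => rw [← h]
  rw [ρ_inv]

theorem Inj.eq {ρ : E →* (V ≃ₗ[F] V)} {K : Subgroup E} (hK : Inj ρ K) {a b : E} (ha : a ∈ K) (hb : b ∈ K)
    (h : ∀ y, ρ a y = ρ b y) : a = b := by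
  have h1 := hK (b⁻¹ * a) (mul_mem (inv_mem hb) ha) fun y => by rw [ρ_mul, h, ρ_inv]
  exact (inv_mul_eq_one.mp h1).symm

/-- The data of one step. -/
structure Data (F V E : Type*) [Field F] [AddCommGroup V] [Module F V] [Group E] where
  ρ : E →* (V ≃ₗ[F] V)
  ω : BilinForm F V
  alt : ω.IsAlt
  nondeg : ∀ u, (∀ z, ω u z = 0) → u = 0
  isom : ∀ g x y, ω (ρ g x) (ρ g y) = ω x y
  hF : ∃ a : F, a ≠ 0 ∧ a ≠ 1
  e₀ : V
  f₀ : V
  e₁ : V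
  f₁ : V
  W : Submodule F V
  h00 : ω e₀ f₀ = 1
  h11 : ω e₁ f₁ = 1
  e₁_mem : e₁ ∈ W
  f₁_mem : f₁ ∈ W
  orth : ∀ w ∈ W, ω e₀ w = 0 ∧ ω f₀ w = 0
  proj : ∀ y, ∃ p ∈ W, ∀ w ∈ W, ω w (y - p) = 0
  L : Subgroup E
  Sz : Subgroup E
  x : F → E
  L_inj : Inj ρ L
  L_fix : ∀ l ∈ L, FixIsom ω W (ρ l)
  L_all : ∀ g, FixIsom ω W g → ∃ l ∈ L, ρ l = g
  Sz_fix : ∀ s ∈ Sz, ∀ y, ω e₀ y = 0 → ω f₀ y = 0 → ρ s y = y
  Sz_e : ∀ t, ∃ s ∈ Sz, Acts ρ ω s e₀ 0 t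
  Sz_f : ∀ t, ∃ s ∈ Sz, Acts ρ ω s f₀ 0 t
  x_acts : ∀ t, Acts ρ ω (x t) e₀ (t • e₁) 0
  K_inj : Inj ρ (Subgroup.closure ((Sz : Set E) ∪ Set.range x ∪ {l | l ∈ L ∧ ∃ β, Acts ρ ω l e₁ 0 β}))
  J_inj : Inj ρ (Subgroup.closure ({s | s ∈ Sz ∧ ∃ t, Acts ρ ω s e₀ 0 t} ∪ Set.range x ∪
    {l | l ∈ L ∧ FixIsom ω (Submodule.span F {e₁, f₁}) (ρ l)}))
  Sz_L : ∀ s ∈ Sz, ∀ l ∈ L, Commute s l
  x_stab : ∀ l ∈ L, ρ l e₁ = e₁ → ∀ t, Commute l (x t)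

namespace Data

variable (D : Data F V E)

/-- The generated group of the next level. -/
def Γ : Subgroup E := Subgroup.closure ((D.Sz : Set E) ∪ D.L ∪ Set.range D.x)

/-- The group of one vector. -/
def K : Subgroup E :=
  Subgroup.closure ((D.Sz : Set E) ∪ Set.range D.x ∪ {l | l ∈ D.L ∧ ∃ β, Acts D.ρ D.ω l D.e₁ 0 β})

/-- The group of one hyperbolic plane. -/
def J : Subgroup E :=
  Subgroup.closure ({s | s ∈ D.Sz ∧ ∃ t, Acts D.ρ D.ω s D.e₀ 0 t} ∪ Set.range D.x ∪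
    {l | l ∈ D.L ∧ FixIsom D.ω (Submodule.span F {D.e₁, D.f₁}) (D.ρ l)})

theorem sz_le_K : D.Sz ≤ D.K := fun _ h => Subgroup.subset_closure (Or.inl (Or.inl h))

theorem x_mem_K (t : F) : D.x t ∈ D.K := Subgroup.subset_closure (Or.inl (Or.inr ⟨t, rfl⟩))

theorem x_mem_J (t : F) : D.x t ∈ D.J := Subgroup.subset_closure (Or.inl (Or.inr ⟨t, rfl⟩))

theorem x_mem_Γ (t : F) : D.x t ∈ D.Γ := Subgroup.subset_closure (Or.inr ⟨t, rfl⟩)

theorem sz_le_Γ : D.Sz ≤ D.Γ := fun _ h => Subgroup.subset_closure (Or.inl (Or.inl h))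

theorem L_le_Γ : D.L ≤ D.Γ := fun _ h => Subgroup.subset_closure (Or.inl (Or.inr h))

theorem swap (u v : V) : D.ω u v = -D.ω v u := alt_swap D.alt u v

theorem h00' : D.ω D.f₀ D.e₀ = -1 := by rw [D.swap, D.h00]

theorem h01 {w : V} (hw : w ∈ D.W) : D.ω w D.e₀ = 0 ∧ D.ω w D.f₀ = 0 := by
  rw [D.swap w, D.swap w]; simp [(D.orth w hw).1, (D.orth w hw).2]

theorem orth_e₀ {w : V} (hw : w ∈ D.W) : D.ω D.e₀ w = 0 := (D.orth w hw).1

theorem nondegW : ∀ w ∈ D.W, (∀ w' ∈ D.W, D.ω w w' = 0) → w = 0 := by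
  intro w hw h
  refine D.nondeg w fun z => ?_
  obtain ⟨p, hp, hp'⟩ := D.proj z
  have h1 := hp' w hw
  rw [map_sub, h p hp, sub_zero] at h1
  exact h1

theorem L_apply_e₀ {l : E} (hl : l ∈ D.L) : D.ρ l D.e₀ = D.e₀ :=
  (D.L_fix l hl).2.1 _ fun _ hw => (D.h01 hw).1

theorem L_apply_f₀ {l : E} (hl : l ∈ D.L) : D.ρ l D.f₀ = D.f₀ :=
  (D.L_fix l hl).2.1 _ fun _ hw => (D.h01 hw).2

theorem L_maps {l : E} (hl : l ∈ D.L) {w : V} (hw : w ∈ D.W) : D.ρ l w ∈ D.W := (D.L_fix l hl).2.2 w hw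

theorem acts_mul {g g' : E} {a b b' : V} {t t' : F} (h : Acts D.ρ D.ω g a b t) (h' : Acts D.ρ D.ω g' a b' t')
    (hb : D.ω a b = 0) (hb' : D.ω a b' = 0) :
    Acts D.ρ D.ω (g * g') a (b + b') (t + t' + D.ω b b') := fun y => by
  rw [ρ_mul, h', h, eich_mul D.alt t t' hb hb']

theorem acts_inv {g : E} {a b : V} {t : F} (h : Acts D.ρ D.ω g a b t) (hb : D.ω a b = 0) :
    Acts D.ρ D.ω g⁻¹ a (-b) (-t) := fun y => by
  conv_lhs => rw [← (eich_inv D.alt t hb y).1, ← h]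
  rw [ρ_inv]

theorem acts_conj {g : E} {a b : V} {t : F} (h : Acts D.ρ D.ω g a b t) (l : E) :
    Acts D.ρ D.ω (l * g * l⁻¹) (D.ρ l a) (D.ρ l b) t := fun y => by
  have key : ∀ c, D.ω c (D.ρ l⁻¹ y) = D.ω (D.ρ l c) y := fun c => by rw [← D.isom l, ρ_inv']
  rw [ρ_mul, ρ_mul, h, eich_apply, eich_apply]
  simp only [map_add, map_smul, key, ρ_inv']

theorem acts_unique {g g' : E} {K : Subgroup E} (hK : Inj D.ρ K) (hg : g ∈ K) (hg' : g' ∈ K) {a b : V} {t : F}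
    (h : Acts D.ρ D.ω g a b t) (h' : Acts D.ρ D.ω g' a b t) : g = g' :=
  hK.eq hg hg' fun y => by rw [h, h']

/-- The root element at `e₀`. -/
noncomputable def c (t : F) : E := (D.Sz_e t).choose

/-- The root element at `f₀`. -/
noncomputable def d (t : F) : E := (D.Sz_f t).choose

theorem c_mem (t : F) : D.c t ∈ D.Sz := (D.Sz_e t).choose_spec.1

theorem c_acts (t : F) : Acts D.ρ D.ω (D.c t) D.e₀ 0 t := (D.Sz_e t).choose_spec.2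

theorem d_mem (t : F) : D.d t ∈ D.Sz := (D.Sz_f t).choose_spec.1

theorem d_acts (t : F) : Acts D.ρ D.ω (D.d t) D.f₀ 0 t := (D.Sz_f t).choose_spec.2

theorem sz_inj : Inj D.ρ D.Sz := fun k hk h => D.K_inj k (D.sz_le_K hk) h

theorem x_zero : D.x 0 = 1 :=
  D.K_inj _ (D.x_mem_K 0) fun y => by rw [D.x_acts 0, zero_smul, eich_zero]

/-- An isometry of the plane of `e₁, f₁` lifts into `L ∩ J`. -/
theorem exists_plane_lift {g : V ≃ₗ[F] V} (hg : FixIsom D.ω (Submodule.span F {D.e₁, D.f₁}) g) :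
    ∃ l, l ∈ D.L ∧ l ∈ D.J ∧ D.ρ l = g := by
  have hle : Submodule.span F {D.e₁, D.f₁} ≤ D.W := by
    rw [Submodule.span_le]; rintro y (rfl | rfl); exacts [D.e₁_mem, D.f₁_mem]
  have hp : ∀ y, ∃ p ∈ Submodule.span F {D.e₁, D.f₁}, ∀ w ∈ Submodule.span F {D.e₁, D.f₁},
      D.ω w (y - p) = 0 := fun y => by
    refine ⟨D.ω y D.f₁ • D.e₁ + D.ω D.e₁ y • D.f₁, Submodule.mem_span_pair.2 ⟨_, _, rfl⟩, fun w hw => ?_⟩
    obtain ⟨a, b, rfl⟩ := Submodule.mem_span_pair.1 hw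
    have h' : D.ω D.f₁ D.e₁ = -1 := by rw [D.swap, D.h11]
    simp only [map_add, map_sub, map_smul, LinearMap.add_apply, LinearMap.smul_apply, smul_eq_mul,
      D.alt D.e₁, D.alt D.f₁, D.h11, h', D.swap y D.f₁]
    ring
  obtain ⟨l, hl, hlg⟩ := D.L_all g (hg.mono hle hp)
  exact ⟨l, hl, Subgroup.subset_closure (Or.inr ⟨hl, by rw [hlg]; exact hg⟩), hlg⟩

theorem plane_nondeg : ∀ w ∈ Submodule.span F {D.e₁, D.f₁},
    (∀ w' ∈ Submodule.span F {D.e₁, D.f₁}, D.ω w w' = 0) → w = 0 := by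
  intro w hw h
  obtain ⟨a, b, rfl⟩ := Submodule.mem_span_pair.1 hw
  have h1 := h D.f₁ (Submodule.subset_span (by simp))
  have h2 := h D.e₁ (Submodule.subset_span (by simp))
  simp [D.h11, D.alt D.f₁, D.alt D.e₁, D.swap D.f₁ D.e₁] at h1 h2
  simp [h1, h2]

theorem exists_scale {ν : F} (hν : ν ≠ 0) : ∃ h, h ∈ D.L ∧ h ∈ D.J ∧ D.ρ h D.e₁ = ν • D.e₁ := by
  have he : D.e₁ ∈ Submodule.span F {D.e₁, D.f₁} := Submodule.subset_span (by simp)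
  have h0 : D.e₁ ≠ 0 := fun h => by simpa [h] using D.h11
  obtain ⟨g, hg, hge⟩ := exists_fix_transitive D.alt D.plane_nondeg he (Submodule.smul_mem _ ν he) h0
    (smul_ne_zero hν h0)
  obtain ⟨l, hl, hlJ, hlg⟩ := D.exists_plane_lift hg
  exact ⟨l, hl, hlJ, by rw [hlg, hge]⟩

theorem x_conj_stab {l : E} (hl : l ∈ D.L) {ν : F} (hν : ν ≠ 0) (h : D.ρ l D.e₁ = ν • D.e₁) (t : F) :
    l * D.x t * l⁻¹ = D.x (ν * t) := by
  obtain ⟨k, hk, hkJ, hke⟩ := D.exists_scale hν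
  have hm : D.ρ (k⁻¹ * l) D.e₁ = D.e₁ := by rw [ρ_mul, h, ← hke, ρ_inv]
  have h1 : k⁻¹ * l * D.x t = D.x t * (k⁻¹ * l) := D.x_stab _ (mul_mem (inv_mem hk) hl) hm t
  have h2 : k * D.x t * k⁻¹ = D.x (ν * t) := by
    refine D.J_inj.eq (mul_mem (mul_mem hkJ (D.x_mem_J t)) (inv_mem hkJ)) (D.x_mem_J _) fun y => ?_
    rw [D.acts_conj (D.x_acts t) k, D.x_acts, D.L_apply_e₀ hk, map_smul, hke, smul_smul, mul_comm t ν]
  calc l * D.x t * l⁻¹ = k * (k⁻¹ * l * D.x t) * l⁻¹ := by group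
    _ = k * D.x t * k⁻¹ := by rw [h1]; group
    _ = _ := h2

theorem L_trans {v : V} (hv : v ∈ D.W) : ∃ l ∈ D.L, ∃ t : F, D.ρ l (t • D.e₁) = v := by
  by_cases h : v = 0
  · exact ⟨1, one_mem _, 0, by simp [h]⟩
  obtain ⟨g, hg, hge⟩ := exists_fix_transitive D.alt D.nondegW D.e₁_mem hv
    (fun h => by simpa [h] using D.h11) h
  obtain ⟨l, hl, hlg⟩ := D.L_all g hg
  exact ⟨l, hl, 1, by rw [one_smul, hlg, hge]⟩

open Classical in
/-- The translation by `v ∈ W`. -/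
noncomputable def q (v : V) : E :=
  if h : ∃ l ∈ D.L, ∃ t : F, D.ρ l (t • D.e₁) = v then h.choose * D.x h.choose_spec.2.choose * h.choose⁻¹ else 1

theorem q_wd {l l' : E} (hl : l ∈ D.L) (hl' : l' ∈ D.L) {t t' : F}
    (h : D.ρ l (t • D.e₁) = D.ρ l' (t' • D.e₁)) : l * D.x t * l⁻¹ = l' * D.x t' * l'⁻¹ := by
  have h1 : D.ρ (l'⁻¹ * l) (t • D.e₁) = t' • D.e₁ := by rw [ρ_mul, h, ρ_inv]
  have he : D.e₁ ≠ 0 := fun h => by simpa [h] using D.h11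
  by_cases ht : t = 0
  · subst ht
    have ht' : t' = 0 := by
      have h2 : t' • D.e₁ = 0 := by rw [← h1, zero_smul, map_zero]
      exact (smul_eq_zero.1 h2).resolve_right he
    simp [ht', D.x_zero]
  have h2 : D.ρ (l'⁻¹ * l) D.e₁ = (t⁻¹ * t') • D.e₁ := by
    rw [mul_smul, ← h1, map_smul, smul_smul, inv_mul_cancel₀ ht, one_smul]
  have ht' : t⁻¹ * t' ≠ 0 := by
    intro h3
    rw [h3, zero_smul] at h2
    exact he ((D.ρ (l'⁻¹ * l)).map_eq_zero_iff.1 h2)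
  have h3 := D.x_conj_stab (mul_mem (inv_mem hl') hl) ht' h2 t
  rw [show t⁻¹ * t' * t = t' by field_simp] at h3
  rw [← h3]; group

theorem q_eq {l : E} (hl : l ∈ D.L) (t : F) : D.q (D.ρ l (t • D.e₁)) = l * D.x t * l⁻¹ := by
  have h : ∃ l' ∈ D.L, ∃ t' : F, D.ρ l' (t' • D.e₁) = D.ρ l (t • D.e₁) := ⟨l, hl, t, rfl⟩
  rw [q, dif_pos h]
  exact D.q_wd h.choose_spec.1 hl h.choose_spec.2.choose_spec

theorem q_line (t : F) : D.q (t • D.e₁) = D.x t := by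
  have := D.q_eq (one_mem D.L) t
  rwa [ρ_one, one_mul, inv_one, mul_one] at this

theorem q_zero : D.q 0 = 1 := by
  have := D.q_line 0
  rwa [zero_smul, D.x_zero] at this

theorem q_conj {l : E} (hl : l ∈ D.L) {v : V} (hv : v ∈ D.W) : l * D.q v * l⁻¹ = D.q (D.ρ l v) := by
  obtain ⟨m, hm, t, rfl⟩ := D.L_trans hv
  rw [D.q_eq hm, ← ρ_mul, D.q_eq (mul_mem hl hm)]; group

theorem q_acts {v : V} (hv : v ∈ D.W) : Acts D.ρ D.ω (D.q v) D.e₀ v 0 := by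
  obtain ⟨m, hm, t, rfl⟩ := D.L_trans hv
  rw [D.q_eq hm]
  intro y
  rw [D.acts_conj (D.x_acts t) m, D.L_apply_e₀ hm]

theorem q_mem_Γ {v : V} (hv : v ∈ D.W) : D.q v ∈ D.Γ := by
  obtain ⟨m, hm, t, rfl⟩ := D.L_trans hv
  rw [D.q_eq hm]
  exact mul_mem (mul_mem (D.L_le_Γ hm) (D.x_mem_Γ t)) (inv_mem (D.L_le_Γ hm))

theorem sz_comm {s : E} (hs : s ∈ D.Sz) {l : E} (hl : l ∈ D.L) : l * s * l⁻¹ = s := by
  rw [← (D.Sz_L s hs l hl).eq, mul_inv_cancel_right]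

theorem c_q {v : V} (hv : v ∈ D.W) (t : F) : Commute (D.c t) (D.q v) := by
  obtain ⟨m, hm, s, rfl⟩ := D.L_trans hv
  rw [D.q_eq hm, ← D.sz_comm (D.c_mem t) hm]
  have h : Commute (D.c t) (D.x s) := by
    refine D.K_inj.eq (mul_mem (D.sz_le_K (D.c_mem t)) (D.x_mem_K s))
      (mul_mem (D.x_mem_K s) (D.sz_le_K (D.c_mem t))) fun y => ?_
    rw [ρ_mul, ρ_mul, D.c_acts, D.x_acts, D.c_acts, D.x_acts]
    have h0 : D.ω D.e₀ (0 : V) = 0 := map_zero _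
    have h1 : D.ω D.e₀ (s • D.e₁) = 0 := by rw [map_smul, D.orth_e₀ D.e₁_mem, smul_zero]
    rw [eich_mul D.alt _ _ h0 h1, eich_mul D.alt _ _ h1 h0]
    simp
  show _ = _
  calc m * D.c t * m⁻¹ * (m * D.x s * m⁻¹) = m * (D.c t * D.x s) * m⁻¹ := by group
    _ = _ := by rw [h.eq]; group

theorem exists_two {v w : V} (hv : v ∈ D.W) (hw : w ∈ D.W) (hind : ∀ r : F, w ≠ r • v) (hv0 : v ≠ 0) :
    ∃ z ∈ D.W, D.ω v z = 1 ∧ D.ω z w ≠ 0 ∧ D.ω z w ≠ 1 := by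
  obtain ⟨z₁, hz₁, hvz⟩ : ∃ z ∈ D.W, D.ω v z ≠ 0 := by
    by_contra hc; push Not at hc; exact hv0 (D.nondegW v hv hc)
  obtain ⟨z₂, hz₂, h2, h3⟩ : ∃ z ∈ D.W, D.ω v z = 0 ∧ D.ω z w ≠ 0 := by
    by_contra hc; push Not at hc
    refine hind (-(D.ω z₁ w / D.ω v z₁)) (eq_of_sub_eq_zero ?_)
    refine D.nondegW _ (sub_mem hw (D.W.smul_mem _ hv)) fun z hz => ?_
    have := hc (z - (D.ω v z / D.ω v z₁) • z₁) (sub_mem hz (D.W.smul_mem _ hz₁)) (by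
      rw [map_sub, map_smul, smul_eq_mul, div_mul_cancel₀ _ hvz, sub_self])
    rw [map_sub, map_smul, LinearMap.sub_apply, LinearMap.smul_apply, smul_eq_mul, sub_eq_zero] at this
    rw [map_sub, LinearMap.sub_apply, map_smul, LinearMap.smul_apply, smul_eq_mul, D.swap w z, this]
    ring
  obtain ⟨a, ha0, ha1⟩ := D.hF
  refine ⟨(D.ω v z₁)⁻¹ • z₁ + ((a - (D.ω v z₁)⁻¹ * D.ω z₁ w) / D.ω z₂ w) • z₂,
    add_mem (D.W.smul_mem _ hz₁) (D.W.smul_mem _ hz₂), ?_, ?_⟩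
  · simp [h2, hvz]
  · rw [map_add, map_smul, map_smul, LinearMap.add_apply, LinearMap.smul_apply, LinearMap.smul_apply,
      smul_eq_mul, smul_eq_mul, div_mul_cancel₀ _ h3, add_sub_cancel]
    exact ⟨ha0, ha1⟩

theorem q_add_of_ne {v u : V} (hv : v ∈ D.W) (hu : u ∈ D.W) (h : D.ω v u ≠ 0) :
    D.q v * D.q u = D.q (v + u) * D.c (D.ω v u) := by
  obtain ⟨g, hg, hge, hgf⟩ := exists_fix_pair D.alt D.nondegW D.e₁_mem D.f₁_mem D.h11 hv hu h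
  obtain ⟨l, hl, hlg⟩ := D.L_all g hg
  have hf : D.ω v u • D.f₁ ∈ D.W := D.W.smul_mem _ D.f₁_mem
  have hqJ : ∀ z ∈ Submodule.span F {D.e₁, D.f₁}, D.q z ∈ D.J := by
    intro z hz
    by_cases hz0 : z = 0
    · rw [hz0, D.q_zero]; exact one_mem _
    obtain ⟨k, hk, hke⟩ := exists_fix_transitive D.alt D.plane_nondeg
      (Submodule.subset_span (by simp) : D.e₁ ∈ _) hz (fun h => by simpa [h] using D.h11) hz0
    obtain ⟨m, hm, hmJ, hmk⟩ := D.exists_plane_lift hk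
    rw [← hke, ← hmk, show D.ρ m D.e₁ = D.ρ m ((1 : F) • D.e₁) by rw [one_smul], D.q_eq hm]
    exact mul_mem (mul_mem hmJ (D.x_mem_J 1)) (inv_mem hmJ)
  have hs1 : D.e₁ ∈ Submodule.span F {D.e₁, D.f₁} := Submodule.subset_span (by simp)
  have hs2 : D.ω v u • D.f₁ ∈ Submodule.span F {D.e₁, D.f₁} :=
    Submodule.smul_mem _ _ (Submodule.subset_span (by simp))
  have base : D.q D.e₁ * D.q (D.ω v u • D.f₁) = D.q (D.e₁ + D.ω v u • D.f₁) * D.c (D.ω v u) := by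
    refine D.J_inj.eq (mul_mem (hqJ _ hs1) (hqJ _ hs2)) (mul_mem (hqJ _ (add_mem hs1 hs2))
      (Subgroup.subset_closure (Or.inl (Or.inl ⟨D.c_mem _, _, D.c_acts _⟩)))) fun y => ?_
    rw [D.acts_mul (D.q_acts D.e₁_mem) (D.q_acts hf) (D.orth_e₀ D.e₁_mem) (D.orth_e₀ hf),
      D.acts_mul (D.q_acts (add_mem D.e₁_mem hf)) (D.c_acts _) (D.orth_e₀ (add_mem D.e₁_mem hf))
        (map_zero _)]
    simp [D.h11]
  have h2 : D.q v * D.q u = l * (D.q D.e₁ * D.q (D.ω v u • D.f₁)) * l⁻¹ := by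
    have h4 : D.q v * D.q u = (l * D.q D.e₁ * l⁻¹) * (l * D.q (D.ω v u • D.f₁) * l⁻¹) := by
      rw [D.q_conj hl D.e₁_mem, D.q_conj hl hf, hlg, hge, hgf]
    rw [h4]; group
  have h3 : D.ρ l (D.e₁ + D.ω v u • D.f₁) = v + u := by rw [map_add, hlg, hge, hgf]
  rw [h2, base]
  calc l * (D.q (D.e₁ + D.ω v u • D.f₁) * D.c (D.ω v u)) * l⁻¹
      = (l * D.q (D.e₁ + D.ω v u • D.f₁) * l⁻¹) * (l * D.c (D.ω v u) * l⁻¹) := by group
    _ = _ := by rw [D.q_conj hl (add_mem D.e₁_mem hf), h3, D.sz_comm (D.c_mem _) hl]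

theorem c_add (s t : F) : D.c s * D.c t = D.c (s + t) :=
  D.sz_inj.eq (mul_mem (D.c_mem _) (D.c_mem _)) (D.c_mem _) fun y => by
    rw [D.acts_mul (D.c_acts s) (D.c_acts t) (map_zero _) (map_zero _), D.c_acts]; simp

theorem c_zero : D.c 0 = 1 :=
  D.sz_inj _ (D.c_mem 0) fun y => by rw [D.c_acts, eich_zero]

theorem q_add {v u : V} (hv : v ∈ D.W) (hu : u ∈ D.W) :
    D.q v * D.q u = D.q (v + u) * D.c (D.ω v u) := by
  by_cases hne : D.ω v u ≠ 0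
  · exact D.q_add_of_ne hv hu hne
  rw [not_not] at hne
  rw [hne, D.c_zero, mul_one]
  by_cases hv0 : v = 0
  · simp [hv0, D.q_zero]
  by_cases hdep : ∃ r : F, u = r • v
  · obtain ⟨r, rfl⟩ := hdep
    obtain ⟨l, hl, t, rfl⟩ := D.L_trans hv
    rw [← map_smul, smul_smul, ← map_add, ← add_smul, D.q_eq hl, D.q_eq hl, D.q_eq hl,
      show l * D.x t * l⁻¹ * (l * D.x (r * t) * l⁻¹) = l * (D.x t * D.x (r * t)) * l⁻¹ by group]
    congr 2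
    refine D.K_inj.eq (mul_mem (D.x_mem_K _) (D.x_mem_K _)) (D.x_mem_K _) fun y => ?_
    rw [D.acts_mul (D.x_acts t) (D.x_acts _) (by simp [D.orth_e₀ D.e₁_mem]) (by simp [D.orth_e₀ D.e₁_mem]),
      D.x_acts]
    simp [add_smul, D.alt D.e₁]
  push Not at hdep
  obtain ⟨z, hz, h1, h2, h3⟩ := D.exists_two hv hu hdep hv0
  have hzv : D.ω z v = -1 := by rw [D.swap, h1]
  have huz : D.ω u z = -D.ω z u := D.swap u z
  -- `q u = q z * q (u - z) * c`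
  have e1 : D.q z * D.q (u - z) = D.q u * D.c (D.ω z u) := by
    have := D.q_add_of_ne hz (sub_mem hu hz) (by simpa [D.alt z] using h2)
    rwa [add_sub_cancel, map_sub, D.alt z, sub_zero] at this
  have e2 : D.q v * D.q z = D.q (v + z) * D.c 1 := by
    have := D.q_add_of_ne hv hz (by rw [h1]; exact one_ne_zero)
    rwa [h1] at this
  have hw2 : D.ω (v + z) (u - z) = D.ω z u - 1 := by simp [hne, h1, D.alt z]; ring
  have e3 : D.q (v + z) * D.q (u - z) = D.q (v + u) * D.c (D.ω z u - 1) := by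
    have := D.q_add_of_ne (add_mem hv hz) (sub_mem hu hz) (by rw [hw2, sub_ne_zero]; exact h3)
    rwa [hw2, show v + z + (u - z) = v + u by abel] at this
  apply mul_right_cancel (b := D.c (D.ω z u))
  rw [mul_assoc, ← e1, ← mul_assoc, e2, mul_assoc, (D.c_q (sub_mem hu hz) 1).eq, ← mul_assoc, e3, mul_assoc,
    D.c_add, sub_add_cancel]

/-- The elements `q v * c t * l`. -/
def P : Subgroup E where
  carrier := {g | ∃ v ∈ D.W, ∃ t, ∃ l ∈ D.L, g = D.q v * D.c t * l}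
  one_mem' := ⟨0, zero_mem _, 0, 1, one_mem _, by rw [D.q_zero, D.c_zero]; group⟩
  mul_mem' := by
    rintro _ _ ⟨v, hv, t, l, hl, rfl⟩ ⟨u, hu, s, m, hm, rfl⟩
    have hu' := D.L_maps hl hu
    refine ⟨v + D.ρ l u, add_mem hv hu', D.ω v (D.ρ l u) + (t + s), l * m, mul_mem hl hm, ?_⟩
    calc D.q v * D.c t * l * (D.q u * D.c s * m)
        = D.q v * D.c t * (l * D.q u * l⁻¹) * (l * D.c s * l⁻¹) * (l * m) := by group
      _ = D.q v * (D.c t * D.q (D.ρ l u)) * D.c s * (l * m) := by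
          rw [D.q_conj hl hu, D.sz_comm (D.c_mem _) hl]; group
      _ = D.q v * D.q (D.ρ l u) * (D.c t * D.c s) * (l * m) := by rw [(D.c_q hu' t).eq]; group
      _ = _ := by rw [D.q_add hv hu', D.c_add, mul_assoc (D.q _), D.c_add]
  inv_mem' := by
    rintro _ ⟨v, hv, t, l, hl, rfl⟩
    have hl' := inv_mem hl
    refine ⟨-D.ρ l⁻¹ v, neg_mem (D.L_maps hl' hv), -t, l⁻¹, hl', ?_⟩
    have hw := D.L_maps hl' hv
    have hq : (D.q (D.ρ l⁻¹ v))⁻¹ = D.q (-D.ρ l⁻¹ v) := inv_eq_of_mul_eq_one_right (by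
      rw [D.q_add hw (neg_mem hw), add_neg_cancel, D.q_zero, map_neg, D.alt, neg_zero, D.c_zero, one_mul])
    have hc : (D.c t)⁻¹ = D.c (-t) := inv_eq_of_mul_eq_one_right (by rw [D.c_add, add_neg_cancel, D.c_zero])
    have h5 : Commute (D.c (-t)) (D.q (-D.ρ l⁻¹ v)) := D.c_q (neg_mem hw) (-t)
    calc (D.q v * D.c t * l)⁻¹
        = (l⁻¹ * D.c t * (l⁻¹)⁻¹)⁻¹ * (l⁻¹ * D.q v * (l⁻¹)⁻¹)⁻¹ * l⁻¹ := by group
      _ = D.c (-t) * D.q (-D.ρ l⁻¹ v) * l⁻¹ := by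
          rw [D.sz_comm (D.c_mem _) hl', D.q_conj hl' hv, hq, hc]
      _ = _ := by rw [h5.eq]

theorem q_mem_P {v : V} (hv : v ∈ D.W) : D.q v ∈ D.P :=
  ⟨v, hv, 0, 1, one_mem _, by rw [D.c_zero]; group⟩

theorem c_mem_P (t : F) : D.c t ∈ D.P := ⟨0, zero_mem _, t, 1, one_mem _, by rw [D.q_zero]; group⟩

theorem L_le_P : D.L ≤ D.P := fun l hl => ⟨0, zero_mem _, 0, l, hl, by rw [D.q_zero, D.c_zero]; group⟩

theorem P_apply {g : E} (hg : g ∈ D.P) : D.ρ g D.e₀ = D.e₀ := by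
  obtain ⟨v, hv, t, l, hl, rfl⟩ := hg
  rw [ρ_mul, ρ_mul, D.L_apply_e₀ hl, D.c_acts, eich_apply]
  simp only [D.alt D.e₀, mul_zero, zero_smul, add_zero, map_zero, smul_zero, LinearMap.zero_apply]
  rw [D.q_acts hv, eich_apply]
  simp [D.alt D.e₀, (D.h01 hv).1]

theorem P_inj : Inj D.ρ D.P := by
  rintro _ ⟨v, hv, t, l, hl, rfl⟩ h
  have h1 := h D.f₀
  rw [ρ_mul, D.L_apply_f₀ hl, D.acts_mul (D.q_acts hv) (D.c_acts t) (D.orth_e₀ hv) (map_zero _),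
    eich_apply, D.h00] at h1
  simp [(D.h01 hv).2] at h1
  rw [add_assoc, add_eq_left] at h1
  have h2 := congrArg (fun z => D.ω z D.f₀) h1
  simp [(D.h01 hv).2, D.h00] at h2
  subst h2
  simp at h1
  subst h1
  rw [D.q_zero, D.c_zero, one_mul, one_mul] at h ⊢
  exact D.L_inj l hl h

theorem P_le_Γ : D.P ≤ D.Γ := by
  rintro _ ⟨v, hv, t, l, hl, rfl⟩
  exact mul_mem (mul_mem (D.q_mem_Γ hv) (D.sz_le_Γ (D.c_mem t))) (D.L_le_Γ hl)

end Data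

end CfsgLib.SpAmalgam
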