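/-
One step of the amalgam argument for symplectic groups: the generated group is separated by its action and has all
isometries of the next level as images.
-/
import Cfsg.Agent.Lib.SpAmalgam.Data

set_option autoImplicit false

namespace CfsgLib.SpAmalgam

namespace Data

variable {F V E : Type*} [Field F] [AddCommGroup V] [Module F V] [Group E] (D : Data F V E)

/-- The point of `g`. -/
def pt (g : E) : V := D.ρ g D.e₀

/-- The coefficient of `e₀`. -/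
def cA (y : V) : F := D.ω y D.f₀

/-- The coefficient of `f₀`. -/
def cB (y : V) : F := D.ω D.e₀ y

theorem pt_mul (g h : E) : D.pt (g * h) = D.ρ g (D.pt h) := ρ_mul D.ρ g h _

theorem eq_pair_add (y : V) :
    D.ω D.e₀ (y - D.cA y • D.e₀ - D.cB y • D.f₀) = 0 ∧ D.ω D.f₀ (y - D.cA y • D.e₀ - D.cB y • D.f₀) = 0 := by
  simp [cA, cB, D.alt D.e₀, D.alt D.f₀, D.h00, D.h00', D.swap D.f₀ y]

theorem sz_maps {s : E} (hs : s ∈ D.Sz) {z : V} (hz : ∃ a b : F, z = a • D.e₀ + b • D.f₀) :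
    D.ρ s z = D.cA (D.ρ s z) • D.e₀ + D.cB (D.ρ s z) • D.f₀ := by
  refine eq_of_sub_eq_zero (D.nondeg _ fun y => ?_)
  obtain ⟨a, b, rfl⟩ := hz
  set z' := D.ρ s (a • D.e₀ + b • D.f₀) with hz'
  set y' := y - D.cA y • D.e₀ - D.cB y • D.f₀ with hy'
  obtain ⟨h1, h2⟩ := D.eq_pair_add y
  have h3 : D.ω z' y' = 0 := by
    rw [hz', ← D.Sz_fix s hs y' h1 h2, D.isom, hy']
    simp only [map_add, map_smul, LinearMap.add_apply, LinearMap.smul_apply, smul_eq_mul, h1, h2, mul_zero,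
      add_zero]
  have e : y = D.cA y • D.e₀ + D.cB y • D.f₀ + y' := by rw [hy']; abel
  rw [← hy'] at h1 h2
  rw [e]
  simp only [map_add, map_sub, map_smul, LinearMap.add_apply, LinearMap.sub_apply, LinearMap.smul_apply,
    smul_eq_mul, h1, h2, h3, D.alt D.e₀, D.alt D.f₀, D.h00, D.h00', cA, cB, D.swap z' D.e₀]
  ring

theorem d_apply (r : F) (y : V) : D.ρ (D.d r) y = y + (r * D.ω D.f₀ y) • D.f₀ := by
  rw [D.d_acts, eich_apply]; simp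

theorem c_apply (t : F) (y : V) : D.ρ (D.c t) y = y + (t * D.ω D.e₀ y) • D.e₀ := by
  rw [D.c_acts, eich_apply]; simp

theorem d_cancel (r : F) : D.d r * D.d (-r) = 1 :=
  D.sz_inj _ (mul_mem (D.d_mem _) (D.d_mem _)) fun y => by
    rw [D.acts_mul (D.d_acts r) (D.d_acts (-r)) (map_zero _) (map_zero _), eich_apply]; simp

/-- The Weyl element. -/
noncomputable def w : E := D.c (-1) * D.d (-1) * D.c (-1)

theorem w_mem : D.w ∈ D.Sz := mul_mem (mul_mem (D.c_mem _) (D.d_mem _)) (D.c_mem _)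

theorem w_e₀ : D.ρ D.w D.e₀ = D.f₀ := by
  rw [w, ρ_mul, ρ_mul]; simp [c_apply, d_apply, D.alt D.e₀, D.h00, D.h00', map_add]

theorem w_f₀ : D.ρ D.w D.f₀ = -D.e₀ := by
  rw [w, ρ_mul, ρ_mul]; simp [c_apply, d_apply, D.alt D.e₀, D.alt D.f₀, D.h00, D.h00', map_add]

theorem w_W {v : V} (hv : v ∈ D.W) : D.ρ D.w v = v := D.Sz_fix _ D.w_mem v (D.orth v hv).1 (D.orth v hv).2

/-- The translations at `f₀`. -/
noncomputable def n (v : V) : E := D.w * D.q v * D.w⁻¹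

theorem n_acts {v : V} (hv : v ∈ D.W) : Acts D.ρ D.ω (D.n v) D.f₀ v 0 := by
  have := D.acts_conj (D.q_acts hv) D.w
  rwa [D.w_e₀, D.w_W hv] at this

theorem n_mem_Γ {v : V} (hv : v ∈ D.W) : D.n v ∈ D.Γ :=
  mul_mem (mul_mem (D.sz_le_Γ D.w_mem) (D.q_mem_Γ hv)) (inv_mem (D.sz_le_Γ D.w_mem))

theorem q_inv {v : V} (hv : v ∈ D.W) : (D.q v)⁻¹ = D.q (-v) := inv_eq_of_mul_eq_one_right (by
  rw [D.q_add hv (neg_mem hv), add_neg_cancel, D.q_zero, map_neg, D.alt, neg_zero, D.c_zero, one_mul])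

/-! ### The group of one vector -/

/-- The behaviour of an element of `K`. -/
def KProp (k : E) : Prop :=
  (∀ y, D.ω D.e₀ y = 0 → D.ω D.f₀ y = 0 → D.ω D.e₁ y = 0 → D.ρ k y = y) ∧ D.ρ k D.e₁ = D.e₁ ∧
    (∀ a b c : F, ∃ a' b' c' : F,
      D.ρ k (a • D.e₀ + b • D.f₀ + c • D.e₁) = a' • D.e₀ + b' • D.f₀ + c' • D.e₁)

theorem KProp.mul {k k' : E} (h : D.KProp k) (h' : D.KProp k') : D.KProp (k * k') := by
  refine ⟨fun y a b c => by rw [ρ_mul, h'.1 y a b c, h.1 y a b c], by rw [ρ_mul, h'.2.1, h.2.1],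
    fun a b c => ?_⟩
  obtain ⟨a', b', c', e⟩ := h'.2.2 a b c
  rw [ρ_mul, e]
  exact h.2.2 a' b' c'

theorem kprop_sz {s : E} (hs : s ∈ D.Sz) : D.KProp s := by
  have h1 : D.ρ s D.e₁ = D.e₁ := D.Sz_fix s hs _ (D.orth _ D.e₁_mem).1 (D.orth _ D.e₁_mem).2
  refine ⟨fun y a b _ => D.Sz_fix s hs y a b, h1, fun a b c => ?_⟩
  exact ⟨_, _, c, by rw [map_add, map_smul (D.ρ s) c, h1, D.sz_maps hs ⟨a, b, rfl⟩]⟩

theorem kprop_x (t : F) : D.KProp (D.x t) := by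
  refine ⟨fun y a _ c => ?_, ?_, fun a b c => ⟨a, b, c + t * b, ?_⟩⟩
  · rw [D.x_acts, eich_apply]; simp [a, c]
  · rw [D.x_acts, eich_apply]; simp [(D.orth _ D.e₁_mem).1, D.alt D.e₁]
  · rw [D.x_acts, eich_apply]
    simp only [map_add, map_smul, LinearMap.smul_apply, D.alt D.e₀, D.alt D.e₁, D.h00,
      (D.orth _ D.e₁_mem).1, (D.h01 D.e₁_mem).1, (D.h01 D.e₁_mem).2, smul_eq_mul]
    module

theorem kprop_tl {l : E} (β : F) (h : Acts D.ρ D.ω l D.e₁ 0 β) : D.KProp l := by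
  refine ⟨fun y _ _ c => ?_, ?_, fun a b c => ⟨a, b, c, ?_⟩⟩
  · rw [h, eich_apply]; simp [c]
  · rw [h, eich_apply]; simp [D.alt D.e₁]
  · rw [h, eich_apply]; simp [D.alt D.e₁, (D.h01 D.e₁_mem).1, (D.h01 D.e₁_mem).2]

theorem kprop {k : E} (hk : k ∈ D.K) : D.KProp k := by
  suffices h : D.KProp k ∧ D.KProp k⁻¹ from h.1
  induction hk using Subgroup.closure_induction with
  | mem g hg =>
    rcases hg with (hs | ⟨t, rfl⟩) | ⟨-, β, hβ⟩
    · exact ⟨D.kprop_sz hs, D.kprop_sz (inv_mem hs)⟩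
    · refine ⟨D.kprop_x t, ?_⟩
      rw [show (D.x t)⁻¹ = D.x (-t) by
        rw [← D.q_line t, ← D.q_line (-t), D.q_inv (D.W.smul_mem t D.e₁_mem), neg_smul]]
      exact D.kprop_x _
    · refine ⟨D.kprop_tl β hβ, D.kprop_tl (-β) ?_⟩
      simpa using D.acts_inv hβ (map_zero _)
  | one => rw [inv_one]; exact ⟨D.kprop_sz (one_mem _), D.kprop_sz (one_mem _)⟩
  | mul a b _ _ ha hb => rw [mul_inv_rev]; exact ⟨ha.1.mul D hb.1, hb.2.mul D ha.2⟩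
  | inv a _ ha => rw [inv_inv]; exact ⟨ha.2, ha.1⟩

theorem exists_tl (β : F) : ∃ l, l ∈ D.L ∧ l ∈ D.K ∧ Acts D.ρ D.ω l D.e₁ 0 β := by
  obtain ⟨l, hl, hlg⟩ := D.L_all _ (fixIsom_eich D.alt (a := D.e₁) (b := 0) β (map_zero _) D.e₁_mem
    D.W.zero_mem)
  have h : Acts D.ρ D.ω l D.e₁ 0 β := fun y => by rw [hlg, eichEquiv_apply]
  exact ⟨l, hl, Subgroup.subset_closure (Or.inr ⟨hl, β, h⟩), h⟩

theorem K_stab {k : E} (hk : k ∈ D.K) (he : D.ρ k D.e₀ = D.e₀) : k ∈ D.P := by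
  obtain ⟨a, b, c, hf⟩ := (D.kprop hk).2.2 0 1 0
  simp at hf
  have hb : b = 1 := by
    have := D.isom k D.e₀ D.f₀
    rw [he, hf, D.h00] at this
    simpa [D.alt D.e₀, D.h00, D.orth_e₀ D.e₁_mem] using this
  subst hb
  set k₀ := D.c a * D.x c with hk₀
  have hk₀K : k₀ ∈ D.K := mul_mem (D.sz_le_K (D.c_mem a)) (D.x_mem_K c)
  have hk₀P : k₀ ∈ D.P := by
    rw [hk₀, ← D.q_line c]; exact mul_mem (D.c_mem_P a) (D.q_mem_P (D.W.smul_mem c D.e₁_mem))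
  have hacts : Acts D.ρ D.ω k₀ D.e₀ (0 + c • D.e₁) (a + 0 + D.ω (0 : V) (c • D.e₁)) :=
    D.acts_mul (D.c_acts a) (D.x_acts c) (map_zero _) (by simp [D.orth_e₀ D.e₁_mem])
  have h0f : D.ρ k₀ D.f₀ = D.ρ k D.f₀ := by
    rw [hacts, hf, eich_apply]; simp [D.h00, (D.h01 D.e₁_mem).2]; abel
  set g := k₀⁻¹ * k with hg
  have hgK : g ∈ D.K := mul_mem (inv_mem hk₀K) hk
  have g1 : D.ρ g D.e₀ = D.e₀ := by rw [hg, ρ_mul, he]; exact ρ_inv_fix D.ρ (D.P_apply hk₀P)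
  have g2 : D.ρ g D.f₀ = D.f₀ := by rw [hg, ρ_mul, ← h0f, ρ_inv]
  have g3 : ∀ y, D.ω D.e₁ y = 0 → D.ρ g y = y := by
    intro y hy
    obtain ⟨h1, h2⟩ := D.eq_pair_add y
    have h3 : D.ω D.e₁ (y - D.cA y • D.e₀ - D.cB y • D.f₀) = 0 := by
      simp [hy, (D.h01 D.e₁_mem).1, (D.h01 D.e₁_mem).2]
    have := (D.kprop hgK).1 _ h1 h2 h3
    rwa [map_sub, map_sub, map_smul, map_smul, g1, g2, sub_left_inj, sub_left_inj] at this
  set Δ := D.ρ g D.f₁ - D.f₁ with hΔ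
  have hΔ0 : ∀ y, D.ω D.e₁ y = 0 → D.ω Δ y = 0 := by
    intro y hy
    rw [hΔ, map_sub, LinearMap.sub_apply]
    conv_lhs => arg 1; rw [← g3 y hy]
    rw [D.isom, sub_self]
  have hΔ1 : Δ = D.ω Δ D.f₁ • D.e₁ := by
    refine eq_of_sub_eq_zero (D.nondeg _ fun y => ?_)
    have h := hΔ0 (y - D.ω D.e₁ y • D.f₁) (by simp [D.h11])
    rw [map_sub, map_smul, smul_eq_mul, sub_eq_zero] at h
    rw [map_sub, LinearMap.sub_apply, map_smul, LinearMap.smul_apply, smul_eq_mul, h]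
    ring
  obtain ⟨l, hl, hlK, hla⟩ := D.exists_tl (D.ω Δ D.f₁)
  have hgl : g = l := by
    refine D.K_inj.eq hgK hlK fun y => ?_
    have h := g3 (y - D.ω D.e₁ y • D.f₁) (by simp [D.h11])
    rw [map_sub, map_smul, sub_eq_iff_eq_add] at h
    rw [h, hla, eich_apply, show D.ρ g D.f₁ = D.f₁ + Δ by rw [hΔ]; abel, hΔ1]
    simp [mul_comm (D.ω D.e₁ y), smul_smul, D.h11]
    abel
  rw [show k = k₀ * g by rw [hg, mul_inv_cancel_left], hgl]
  exact mul_mem hk₀P (D.L_le_P hl)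

theorem K_normal {m : E} (hm : m ∈ D.L) {ν : F} (hν : ν ≠ 0) (he : D.ρ m D.e₁ = ν • D.e₁) {k : E}
    (hk : k ∈ D.K) : m * k * m⁻¹ ∈ D.K := by
  induction hk using Subgroup.closure_induction with
  | mem g hg =>
    rcases hg with (hs | ⟨t, rfl⟩) | ⟨hg, β, hβ⟩
    · rw [D.sz_comm hs hm]; exact D.sz_le_K hs
    · rw [D.x_conj_stab hm hν he]; exact D.x_mem_K _
    · refine Subgroup.subset_closure (Or.inr ⟨mul_mem (mul_mem hm hg) (inv_mem hm), ν * ν * β, fun y => ?_⟩)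
      rw [D.acts_conj hβ m, map_zero, he, eich_smul_arg, smul_zero]
  | one => simp
  | mul a b _ _ ha hb => rw [show m * (a * b) * m⁻¹ = m * a * m⁻¹ * (m * b * m⁻¹) by group]; exact mul_mem ha hb
  | inv a _ ha => rw [show m * a⁻¹ * m⁻¹ = (m * a * m⁻¹)⁻¹ by group]; exact inv_mem ha

/-! ### Good elements -/

/-- An element of a conjugate of `K` times the stabiliser. -/
def Good₀ (g : E) : Prop := ∃ l ∈ D.L, ∃ k ∈ D.K, ∃ p ∈ D.P, g = l * k * l⁻¹ * p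

theorem pt_P {g p : E} (hp : p ∈ D.P) : D.pt (g * p) = D.pt g := by rw [pt, ρ_mul, D.P_apply hp]; rfl

theorem pt_conj {l : E} (hl : l ∈ D.L) (k : E) : D.pt (l * k * l⁻¹) = D.ρ l (D.ρ k D.e₀) := by
  rw [pt, ρ_mul, ρ_mul, D.L_apply_e₀ (inv_mem hl)]

theorem cA_L {l : E} (hl : l ∈ D.L) (y : V) : D.cA (D.ρ l y) = D.cA y := by
  rw [cA, cA]; conv_lhs => rw [← D.L_apply_f₀ hl]
  rw [D.isom]

theorem cB_L {l : E} (hl : l ∈ D.L) (y : V) : D.cB (D.ρ l y) = D.cB y := by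
  rw [cB, cB]; conv_lhs => rw [← D.L_apply_e₀ hl]
  rw [D.isom]

theorem pt_form {l k : E} (hl : l ∈ D.L) (hk : k ∈ D.K) :
    ∃ t : F, D.pt (l * k * l⁻¹) = D.cA (D.pt (l * k * l⁻¹)) • D.e₀ + D.cB (D.pt (l * k * l⁻¹)) • D.f₀ +
      D.ρ l (t • D.e₁) ∧ (D.cA (D.pt (l * k * l⁻¹)) ≠ 0 ∨ D.cB (D.pt (l * k * l⁻¹)) ≠ 0) := by
  obtain ⟨a, b, t, h⟩ := (D.kprop hk).2.2 1 0 0
  simp at h
  refine ⟨t, ?_⟩
  rw [D.pt_conj hl, D.cA_L hl, D.cB_L hl, h]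
  have ha : D.cA (a • D.e₀ + b • D.f₀ + t • D.e₁) = a := by
    simp [cA, D.h00, D.alt D.f₀, (D.h01 D.e₁_mem).2]
  have hb : D.cB (a • D.e₀ + b • D.f₀ + t • D.e₁) = b := by
    simp [cB, D.h00, D.alt D.e₀, D.orth_e₀ D.e₁_mem]
  rw [ha, hb]
  refine ⟨by rw [map_add, map_add, map_smul, map_smul, D.L_apply_e₀ hl, D.L_apply_f₀ hl], ?_⟩
  by_contra hc
  push Not at hc
  rw [hc.1, hc.2, zero_smul, zero_smul, add_zero, zero_add] at h
  have h2 : D.ρ k D.e₀ = D.ρ k (t • D.e₁) := by rw [map_smul, (D.kprop hk).2.1]; exact h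
  have h3 := congrArg (fun z => D.ω z D.f₀) ((D.ρ k).injective h2)
  simp [D.h00, (D.h01 D.e₁_mem).2] at h3

theorem Good₀.ne {g : E} (hg : D.Good₀ g) : D.cA (D.pt g) ≠ 0 ∨ D.cB (D.pt g) ≠ 0 := by
  obtain ⟨l, hl, k, hk, p, hp, rfl⟩ := hg
  obtain ⟨_, _, h⟩ := D.pt_form hl hk
  rwa [D.pt_P hp]

theorem exists_sz {a b : F} (h : a ≠ 0 ∨ b ≠ 0) :
    ∃ s ∈ Subgroup.closure (Set.range D.c ∪ Set.range D.d), D.ρ s D.e₀ = a • D.e₀ + b • D.f₀ := by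
  have hc : ∀ t, D.c t ∈ Subgroup.closure (Set.range D.c ∪ Set.range D.d) :=
    fun t => Subgroup.subset_closure (Or.inl ⟨t, rfl⟩)
  have hd : ∀ t, D.d t ∈ Subgroup.closure (Set.range D.c ∪ Set.range D.d) :=
    fun t => Subgroup.subset_closure (Or.inr ⟨t, rfl⟩)
  have key : ∀ a b : F, b ≠ 0 → D.ρ (D.c ((a - 1) / b) * D.d (-b)) D.e₀ = a • D.e₀ + b • D.f₀ := by
    intro a b hb
    rw [ρ_mul, d_apply, c_apply]
    simp only [D.h00', map_add, map_smul, D.alt D.e₀, D.h00, smul_eq_mul, mul_neg, mul_one, neg_neg, zero_add,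
      div_mul_cancel₀ _ hb]
    module
  by_cases hb : b ≠ 0
  · exact ⟨_, mul_mem (hc _) (hd _), key a b hb⟩
  rw [not_not] at hb
  have ha := h.resolve_right (by simp [hb])
  subst hb
  refine ⟨D.d a⁻¹ * (D.c ((a - 1) / 1) * D.d (-1)), mul_mem (hd _) (mul_mem (hc _) (hd _)), ?_⟩
  rw [ρ_mul, key a 1 one_ne_zero, d_apply]
  simp only [map_add, map_smul, D.h00', D.alt D.f₀, smul_eq_mul, mul_neg, mul_one, mul_zero, add_zero,
    inv_mul_cancel₀ ha]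
  module

theorem cd_le_sz : Subgroup.closure (Set.range D.c ∪ Set.range D.d) ≤ D.Sz := by
  rw [Subgroup.closure_le]
  rintro _ (⟨t, rfl⟩ | ⟨t, rfl⟩)
  exacts [D.c_mem t, D.d_mem t]

theorem good₀_func {g g' : E} (hg : D.Good₀ g) (hg' : D.Good₀ g') (h : D.pt g = D.pt g') :
    g⁻¹ * g' ∈ D.P := by
  have hne := hg.ne D
  obtain ⟨l, hl, k, hk, p, hp, rfl⟩ := hg
  obtain ⟨l', hl', k', hk', p', hp', rfl⟩ := hg'
  rw [D.pt_P hp] at h hne
  rw [D.pt_P hp'] at h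
  have reduce : ∀ {m a b : E}, m ∈ D.L → a ∈ D.K → b ∈ D.K →
      D.pt (m * a * m⁻¹) = D.pt (m * b * m⁻¹) → (m * a * m⁻¹)⁻¹ * (m * b * m⁻¹) ∈ D.P := by
    intro m a b hm ha hb e
    rw [D.pt_conj hm, D.pt_conj hm] at e
    have e' := (D.ρ m).injective e
    have : a⁻¹ * b ∈ D.P := D.K_stab (mul_mem (inv_mem ha) hb) (by rw [ρ_mul, ← e', ρ_inv])
    rw [show (m * a * m⁻¹)⁻¹ * (m * b * m⁻¹) = m * (a⁻¹ * b) * m⁻¹ by group]
    exact mul_mem (mul_mem (D.L_le_P hm) this) (inv_mem (D.L_le_P hm))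
  suffices hk'' : (l * k * l⁻¹)⁻¹ * (l' * k' * l'⁻¹) ∈ D.P by
    rw [show (l * k * l⁻¹ * p)⁻¹ * (l' * k' * l'⁻¹ * p') =
      p⁻¹ * ((l * k * l⁻¹)⁻¹ * (l' * k' * l'⁻¹)) * p' by group]
    exact mul_mem (mul_mem (inv_mem hp) hk'') hp'
  obtain ⟨t, ht, -⟩ := D.pt_form hl hk
  obtain ⟨t', ht', -⟩ := D.pt_form hl' hk'
  rw [← h] at ht'
  have htt : D.ρ l (t • D.e₁) = D.ρ l' (t' • D.e₁) := add_left_cancel (ht.symm.trans ht')
  have he : D.e₁ ≠ 0 := fun h => by simpa [h] using D.h11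
  by_cases h0 : t = 0
  · have h0' : D.ρ l' (t' • D.e₁) = 0 := by rw [← htt, h0, zero_smul, map_zero]
    obtain ⟨s, hs, hse⟩ := D.exists_sz hne
    have hsz := D.cd_le_sz hs
    have hpt : ∀ {m : E}, m ∈ D.L → D.pt (m * s * m⁻¹) = D.pt (l * k * l⁻¹) := fun {m} hm => by
      rw [D.sz_comm hsz hm, pt, hse, ht, h0, zero_smul, map_zero, add_zero]
      rw [← pt] at *
      simp [cA, cB, D.alt D.e₀, D.alt D.f₀, D.h00]
    have a := reduce hl hk (D.sz_le_K hsz) (hpt hl).symm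
    have b := reduce hl' (D.sz_le_K hsz) hk' ((hpt hl').trans h)
    rw [D.sz_comm hsz hl] at a
    rw [D.sz_comm hsz hl'] at b
    simpa [mul_assoc] using mul_mem a b
  · have ht0 : t' ≠ 0 := by
      intro h1
      rw [h1, zero_smul, map_zero] at htt
      exact h0 ((smul_eq_zero.1 ((D.ρ l).map_eq_zero_iff.1 htt)).resolve_right he)
    have hm : D.ρ (l⁻¹ * l') D.e₁ = (t'⁻¹ * t) • D.e₁ := by
      rw [mul_smul, ← ρ_inv D.ρ l (t • D.e₁), htt, ← map_smul, ← map_smul, ρ_mul, smul_smul,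
        inv_mul_cancel₀ ht0, one_smul]
    have hk2 := D.K_normal (mul_mem (inv_mem hl) hl') (mul_ne_zero (inv_ne_zero ht0) h0) hm hk'
    have e : l * (l⁻¹ * l' * k' * (l⁻¹ * l')⁻¹) * l⁻¹ = l' * k' * l'⁻¹ := by group
    have a := reduce hl hk hk2 (by rw [e]; exact h)
    rwa [e] at a

theorem Good₀.sz {g s : E} (hg : D.Good₀ g) (hs : s ∈ D.Sz) : D.Good₀ (s * g) := by
  obtain ⟨l, hl, k, hk, p, hp, rfl⟩ := hg
  refine ⟨l, hl, s * k, mul_mem (D.sz_le_K hs) hk, p, hp, ?_⟩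
  conv_lhs => rw [← D.sz_comm hs hl]
  group

theorem Good₀.left {g m : E} (hg : D.Good₀ g) (hm : m ∈ D.L) : D.Good₀ (m * g) := by
  obtain ⟨l, hl, k, hk, p, hp, rfl⟩ := hg
  exact ⟨m * l, mul_mem hm hl, k, hk, m * p, mul_mem (D.L_le_P hm) hp, by group⟩

theorem good₀_q {g : E} (hg : D.Good₀ g) (hb : D.cB (D.pt g) ≠ 0) {u : V} (hu : u ∈ D.W) :
    D.Good₀ (D.q u * g) := by
  obtain ⟨l, hl, k, hk, p, hp, rfl⟩ := hg
  rw [D.pt_P hp] at hb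
  obtain ⟨t, ht, -⟩ := D.pt_form hl hk
  set a := D.cA (D.pt (l * k * l⁻¹))
  set b := D.cB (D.pt (l * k * l⁻¹))
  obtain ⟨s, hs, hse⟩ := D.exists_sz (a := a) (b := b) (Or.inr hb)
  have hsz := D.cd_le_sz hs
  have hk' : D.x (t / b) * s ∈ D.K := mul_mem (D.x_mem_K _) (D.sz_le_K hsz)
  have hpt : D.pt (l * (D.x (t / b) * s) * l⁻¹) = D.pt (l * k * l⁻¹) := by
    rw [D.pt_conj hl, ρ_mul, hse, ht, D.x_acts, eich_apply]
    simp only [map_add, map_smul, D.alt D.e₀, D.h00, (D.h01 D.e₁_mem).1, (D.h01 D.e₁_mem).2,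
      D.L_apply_e₀ hl, D.L_apply_f₀ hl, smul_eq_mul, mul_one, mul_zero, zero_mul, zero_add, add_zero,
      zero_smul, LinearMap.smul_apply, smul_smul, mul_div_cancel₀ _ hb]
  have hP := D.good₀_func ⟨l, hl, _, hk', 1, one_mem _, rfl⟩ ⟨l, hl, k, hk, p, hp, rfl⟩
    (by rw [D.pt_P (one_mem _), D.pt_P hp, hpt])
  set v := D.ρ l ((t / b) • D.e₁) with hv
  have hvW : v ∈ D.W := D.L_maps hl (D.W.smul_mem _ D.e₁_mem)
  have e1 : l * (D.x (t / b) * s) * l⁻¹ = D.q v * s := by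
    rw [hv, D.q_eq hl]
    conv_rhs => rw [← D.sz_comm hsz hl]
    group
  obtain ⟨m, hm, τ, hτ⟩ := D.L_trans (add_mem hu hvW)
  have hs' : D.c (D.ω u v) * s ∈ D.Sz := mul_mem (D.c_mem _) hsz
  refine ⟨m, hm, D.x τ * (D.c (D.ω u v) * s), mul_mem (D.x_mem_K _) (D.sz_le_K hs'),
    (l * (D.x (t / b) * s) * l⁻¹ * 1)⁻¹ * (l * k * l⁻¹ * p), hP, ?_⟩
  have e2 : m * (D.x τ * (D.c (D.ω u v) * s)) * m⁻¹ = D.q (u + v) * (D.c (D.ω u v) * s) := by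
    rw [← hτ, D.q_eq hm]
    conv_rhs => rw [← D.sz_comm hs' hm]
    group
  rw [e2, ← mul_assoc (D.q (u + v)), ← D.q_add hu hvW, e1]
  group

theorem good₀_n {g : E} (hg : D.Good₀ g) (ha : D.cA (D.pt g) ≠ 0) {u : V} (hu : u ∈ D.W) :
    D.Good₀ (D.n u * g) := by
  have h1 := hg.sz D (inv_mem D.w_mem)
  have h2 : D.cB (D.pt (D.w⁻¹ * g)) = -D.cA (D.pt g) := by
    rw [cB, D.pt_mul, ← D.isom D.w, ρ_inv', D.w_e₀, cA, D.swap]
  have h3 := (D.good₀_q h1 (by rw [h2]; exact neg_ne_zero.2 ha) hu).sz D D.w_mem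
  rwa [show D.n u * g = D.w * (D.q u * (D.w⁻¹ * g)) by rw [n]; group]

theorem cA_n {u : V} (hu : u ∈ D.W) (y : V) : D.cA (D.ρ (D.n u) y) = D.cA y := by
  have : D.ρ (D.n u) D.f₀ = D.f₀ := by
    rw [D.n_acts hu, eich_apply]; simp [D.alt D.f₀, (D.h01 hu).2]
  rw [cA, cA]; conv_lhs => rw [← this]
  rw [D.isom]

theorem cB_q {u : V} (hu : u ∈ D.W) (y : V) : D.cB (D.ρ (D.q u) y) = D.cB y := by
  rw [cB, cB]; conv_lhs => rw [← D.P_apply (D.q_mem_P hu)]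
  rw [D.isom]

theorem cA_d (r : F) (y : V) : D.cA (D.ρ (D.d r) y) = D.cA y := by
  simp [cA, d_apply, D.alt D.f₀]

theorem cB_d (r : F) (y : V) : D.cB (D.ρ (D.d r) y) = D.cB y - r * D.cA y := by
  simp [cB, cA, d_apply, D.h00, D.swap D.f₀ y]; ring

theorem n_eq {l : E} (hl : l ∈ D.L) (μ : F) : D.n (D.ρ l (μ • D.e₁)) = l * (D.w * D.x μ * D.w⁻¹) * l⁻¹ := by
  calc D.n (D.ρ l (μ • D.e₁)) = D.w * (l * D.x μ * l⁻¹) * D.w⁻¹ := by rw [n, D.q_eq hl]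
    _ = (l * D.w * l⁻¹) * (l * D.x μ * l⁻¹) * (l * D.w⁻¹ * l⁻¹) := by
      rw [D.sz_comm D.w_mem hl, D.sz_comm (inv_mem D.w_mem) hl]
    _ = _ := by group

/-- Moving a translation at `e₀` across `d 1`. -/
theorem d_q_d {u : V} (hu : u ∈ D.W) :
    ∃ T ∈ D.L, D.d (-1) * D.q u * D.d 1 = D.q u * D.n u * T := by
  obtain ⟨l, hl, μ, rfl⟩ := D.L_trans hu
  obtain ⟨T, hT, hTK, hTa⟩ := D.exists_tl (-(μ * μ))
  have hn : Acts D.ρ D.ω (D.w * D.x μ * D.w⁻¹) D.f₀ (μ • D.e₁) 0 := by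
    have := D.acts_conj (D.x_acts μ) D.w
    rwa [D.w_e₀, map_smul, D.w_W D.e₁_mem] at this
  have base : D.d (-1) * D.x μ * D.d 1 = D.x μ * (D.w * D.x μ * D.w⁻¹) * T := by
    refine D.K_inj.eq (mul_mem (mul_mem (D.sz_le_K (D.d_mem _)) (D.x_mem_K _)) (D.sz_le_K (D.d_mem _)))
      (mul_mem (mul_mem (D.x_mem_K _) (mul_mem (mul_mem (D.sz_le_K D.w_mem) (D.x_mem_K _))
        (inv_mem (D.sz_le_K D.w_mem)))) hTK) fun y => ?_
    rw [ρ_mul, ρ_mul, ρ_mul (g := D.x μ * _), ρ_mul, hn, D.x_acts, D.x_acts, hTa, d_apply, d_apply]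
    simp only [eich_apply, map_add, map_smul, LinearMap.smul_apply, D.alt D.f₀, D.alt D.e₁,
      D.h00, D.h00', (D.h01 D.e₁_mem).2, (D.orth _ D.e₁_mem).1,
      (D.orth _ D.e₁_mem).2, smul_eq_mul, map_zero, LinearMap.zero_apply]
    module
  refine ⟨l * T * l⁻¹, mul_mem (mul_mem hl hT) (inv_mem hl), ?_⟩
  rw [D.n_eq hl, D.q_eq hl]
  conv_lhs => rw [← D.sz_comm (D.d_mem (-1)) hl, ← D.sz_comm (D.d_mem 1) hl]
  calc l * D.d (-1) * l⁻¹ * (l * D.x μ * l⁻¹) * (l * D.d 1 * l⁻¹)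
      = l * (D.d (-1) * D.x μ * D.d 1) * l⁻¹ := by group
    _ = _ := by rw [base]; group

/-- Moving a root element at `f₀` across a translation at `e₀`. -/
theorem q_d_q {u : V} (hu : u ∈ D.W) (r : F) :
    ∃ v ∈ D.W, ∃ T ∈ D.L, D.q (-u) * D.d r * D.q u = D.d r * D.n v * T := by
  obtain ⟨l, hl, μ, rfl⟩ := D.L_trans hu
  obtain ⟨T, hT, hTK, hTa⟩ := D.exists_tl (r * μ * μ)
  refine ⟨D.ρ l ((-r * μ) • D.e₁), D.L_maps hl (D.W.smul_mem _ D.e₁_mem), l * T * l⁻¹,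
    mul_mem (mul_mem hl hT) (inv_mem hl), ?_⟩
  have hn : Acts D.ρ D.ω (D.w * D.x (-r * μ) * D.w⁻¹) D.f₀ ((-r * μ) • D.e₁) 0 := by
    have := D.acts_conj (D.x_acts (-r * μ)) D.w
    rwa [D.w_e₀, map_smul, D.w_W D.e₁_mem] at this
  have base : D.x (-μ) * D.d r * D.x μ = D.d r * (D.w * D.x (-r * μ) * D.w⁻¹) * T := by
    refine D.K_inj.eq (mul_mem (mul_mem (D.x_mem_K _) (D.sz_le_K (D.d_mem _))) (D.x_mem_K _))
      (mul_mem (mul_mem (D.sz_le_K (D.d_mem _)) (mul_mem (mul_mem (D.sz_le_K D.w_mem) (D.x_mem_K _))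
        (inv_mem (D.sz_le_K D.w_mem)))) hTK) fun y => ?_
    rw [ρ_mul, ρ_mul, ρ_mul (g := D.d r * _), ρ_mul, hn, D.x_acts, D.x_acts, hTa, d_apply, d_apply]
    simp only [eich_apply, map_add, map_smul, LinearMap.smul_apply, D.alt D.e₀, D.alt D.f₀, D.alt D.e₁,
      D.h00, D.h00', (D.h01 D.e₁_mem).1, (D.h01 D.e₁_mem).2, (D.orth _ D.e₁_mem).1,
      (D.orth _ D.e₁_mem).2, smul_eq_mul, map_zero, LinearMap.zero_apply]
    module
  rw [D.n_eq hl, ← map_neg, ← neg_smul, D.q_eq hl, D.q_eq hl]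
  conv_lhs => rw [← D.sz_comm (D.d_mem r) hl]
  conv_rhs => rw [← D.sz_comm (D.d_mem r) hl]
  calc l * D.x (-μ) * l⁻¹ * (l * D.d r * l⁻¹) * (l * D.x μ * l⁻¹)
      = l * (D.x (-μ) * D.d r * D.x μ) * l⁻¹ := by group
    _ = _ := by rw [base]; group

theorem good₀_q' {g : E} (hg : D.Good₀ g) {u : V} (hu : u ∈ D.W) (hb : D.cB (D.pt g) = 0)
    (ha : D.cA (D.pt (D.q u * g)) ≠ 0) : D.Good₀ (D.q u * g) := by
  have ha₀ : D.cA (D.pt g) ≠ 0 := (hg.ne D).resolve_right (by simp [hb])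
  obtain ⟨T, hT, e⟩ := D.d_q_d hu
  set h := D.n u * (T * (D.d (-1) * g)) with hh
  have h1 : D.Good₀ h := by
    refine D.good₀_n ((hg.sz D (D.d_mem _)).left D hT) ?_ hu
    rwa [D.pt_mul, D.cA_L hT, D.pt_mul, D.cA_d]
  have e' : D.q u * g = D.d 1 * (D.q u * h) := by
    have hd : D.d 1 * D.d (-1) = 1 := D.d_cancel 1
    rw [hh, show D.d 1 * (D.q u * (D.n u * (T * (D.d (-1) * g)))) =
      D.d 1 * (D.q u * D.n u * T) * (D.d (-1) * g) by group, ← e,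
      show D.d 1 * (D.d (-1) * D.q u * D.d 1) * (D.d (-1) * g) =
        (D.d 1 * D.d (-1)) * D.q u * (D.d 1 * D.d (-1)) * g by group, hd, one_mul, mul_one]
  have h2 : D.cB (D.pt h) ≠ 0 := by
    have e3 : D.cB (D.pt (D.q u * g)) = 0 := by rw [D.pt_mul, D.cB_q hu, hb]
    rw [e', D.pt_mul (D.d 1), D.cB_d, D.pt_mul, D.cB_q hu, one_mul, sub_eq_zero] at e3
    rw [e', D.pt_mul (D.d 1), D.cA_d, D.pt_mul] at ha
    rwa [e3]
  rw [e']
  exact (D.good₀_q h1 h2 hu).sz D (D.d_mem 1)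

/-- An element in the cell of vectors orthogonal to `e₀` and `f₀`. -/
def Good₃ (g : E) : Prop :=
  D.cA (D.pt g) = 0 ∧ D.cB (D.pt g) = 0 ∧ ∃ u ∈ D.W, ∃ h, D.Good₀ h ∧ D.cB (D.pt h) = 0 ∧ g = D.q u * h

/-- An element with a normal form. -/
def Good (g : E) : Prop := D.Good₀ g ∨ D.Good₃ g

theorem good_q₀ {g : E} (hg : D.Good₀ g) {u : V} (hu : u ∈ D.W) : D.Good (D.q u * g) := by
  by_cases hb : D.cB (D.pt g) = 0
  · by_cases ha : D.cA (D.pt (D.q u * g)) = 0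
    · exact Or.inr ⟨ha, by rw [D.pt_mul, D.cB_q hu, hb], u, hu, g, hg, hb, rfl⟩
    · exact Or.inl (D.good₀_q' hg hu hb ha)
  · exact Or.inl (D.good₀_q hg hb hu)

theorem pt_c {g : E} (hb : D.cB (D.pt g) = 0) (t : F) : D.pt (D.c t * g) = D.pt g := by
  rw [D.pt_mul, c_apply, show D.ω D.e₀ (D.pt g) = 0 from hb]; simp

theorem good_q {g : E} (hg : D.Good g) {u : V} (hu : u ∈ D.W) : D.Good (D.q u * g) := by
  rcases hg with hg | ⟨-, -, v, hv, h, hh, hhb, rfl⟩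
  · exact D.good_q₀ hg hu
  · rw [← mul_assoc, D.q_add hu hv, mul_assoc]
    exact D.good_q₀ (hh.sz D (D.c_mem _)) (add_mem hu hv)

theorem good_L {g m : E} (hg : D.Good g) (hm : m ∈ D.L) : D.Good (m * g) := by
  rcases hg with hg | ⟨ha, hb, v, hv, h, hh, hhb, rfl⟩
  · exact Or.inl (hg.left D hm)
  · refine Or.inr ⟨by rw [D.pt_mul, D.cA_L hm, ha], by rw [D.pt_mul, D.cB_L hm, hb], D.ρ m v,
      D.L_maps hm hv, m * h, hh.left D hm, by rw [D.pt_mul, D.cB_L hm, hhb], ?_⟩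
    rw [← D.q_conj hm hv]; group

theorem good_c {g : E} (hg : D.Good g) (t : F) : D.Good (D.c t * g) := by
  rcases hg with hg | ⟨ha, hb, v, hv, h, hh, hhb, rfl⟩
  · exact Or.inl (hg.sz D (D.c_mem t))
  · refine Or.inr ⟨by rw [D.pt_c hb, ha], by rw [D.pt_c hb, hb], v, hv, D.c t * h, hh.sz D (D.c_mem t),
      by rw [D.pt_c hhb, hhb], ?_⟩
    rw [← mul_assoc, (D.c_q hv t).eq, mul_assoc]

theorem good_d {g : E} (hg : D.Good g) (r : F) : D.Good (D.d r * g) := by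
  rcases hg with hg | ⟨ha, hb, v, hv, h, hh, hhb, rfl⟩
  · exact Or.inl (hg.sz D (D.d_mem r))
  obtain ⟨u, hu, T, hT, e⟩ := D.q_d_q hv r
  have hfix : D.pt (D.d r * (D.q v * h)) = D.pt (D.q v * h) := by
    rw [D.pt_mul, d_apply, show D.ω D.f₀ (D.pt (D.q v * h)) = 0 by
      rw [D.swap]; simpa [cA] using ha]
    simp
  have hh' : D.Good₀ (D.d r * (D.n u * (T * h))) := by
    refine (D.good₀_n (hh.left D hT) ?_ hu).sz D (D.d_mem r)
    rw [D.pt_mul, D.cA_L hT]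
    exact (hh.ne D).resolve_right (by simp [hhb])
  have eq : D.d r * (D.q v * h) = D.q v * (D.d r * (D.n u * (T * h))) := by
    rw [show D.d r * (D.n u * (T * h)) = D.d r * D.n u * T * h by group, ← e, ← D.q_inv hv]; group
  refine Or.inr ⟨by rw [hfix, ha], by rw [hfix, hb], v, hv, _, hh', ?_, eq⟩
  rw [eq, D.pt_mul] at hfix
  rw [(D.ρ (D.q v)).injective (hfix.trans (D.pt_mul _ _)), hhb]

theorem sz_eq_closure : D.Sz = Subgroup.closure (Set.range D.c ∪ Set.range D.d) := by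
  refine le_antisymm (fun s hs => ?_) D.cd_le_sz
  have hne : D.cA (D.ρ s D.e₀) ≠ 0 ∨ D.cB (D.ρ s D.e₀) ≠ 0 := by
    by_contra hc
    push Not at hc
    have h := D.sz_maps hs (z := D.e₀) ⟨1, 0, by simp⟩
    rw [hc.1, hc.2, zero_smul, zero_smul, add_zero] at h
    have := congrArg (fun z => D.ω z D.f₀) ((D.ρ s).map_eq_zero_iff.1 h)
    simp [D.h00] at this
  obtain ⟨k, hk, hke⟩ := D.exists_sz hne
  have hks : k⁻¹ * s ∈ D.Sz := mul_mem (inv_mem (D.cd_le_sz hk)) hs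
  have h1 : D.ρ (k⁻¹ * s) D.e₀ = D.e₀ := by
    rw [ρ_mul, D.sz_maps hs ⟨1, 0, by simp⟩, ← hke, ρ_inv]
  have h2 := D.sz_maps hks (z := D.f₀) ⟨0, 1, by simp⟩
  have hb : D.cB (D.ρ (k⁻¹ * s) D.f₀) = 1 := by
    rw [cB]; conv_lhs => rw [← h1]
    rw [D.isom, D.h00]
  rw [hb, one_smul] at h2
  set a := D.cA (D.ρ (k⁻¹ * s) D.f₀)
  have : k⁻¹ * s = D.c a := by
    refine D.sz_inj.eq hks (D.c_mem a) fun y => ?_
    obtain ⟨g1, g2⟩ := D.eq_pair_add y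
    have h := D.Sz_fix _ hks _ g1 g2
    rw [map_sub, map_sub, map_smul, map_smul, h1, h2, sub_sub, sub_eq_iff_eq_add] at h
    rw [h, c_apply, show D.ω D.e₀ y = D.cB y from rfl]
    module
  rw [show s = k * D.c a by rw [← this, mul_inv_cancel_left]]
  exact mul_mem hk (Subgroup.subset_closure (Or.inl ⟨a, rfl⟩))

theorem good_Γ {γ : E} (hγ : γ ∈ D.Γ) : ∀ g, D.Good g → D.Good (γ * g) := by
  have hsz : ∀ s ∈ D.Sz, ∀ g, D.Good g → D.Good (s * g) := by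
    intro s hs
    rw [D.sz_eq_closure] at hs
    suffices h : (∀ g, D.Good g → D.Good (s * g)) ∧ ∀ g, D.Good g → D.Good (s⁻¹ * g) from h.1
    induction hs using Subgroup.closure_induction with
    | mem x hx =>
      rcases hx with ⟨t, rfl⟩ | ⟨t, rfl⟩
      · refine ⟨fun g hg => D.good_c hg t, fun g hg => ?_⟩
        rw [inv_eq_of_mul_eq_one_right (show D.c t * D.c (-t) = 1 by rw [D.c_add, add_neg_cancel, D.c_zero])]
        exact D.good_c hg _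
      · refine ⟨fun g hg => D.good_d hg t, fun g hg => ?_⟩
        rw [inv_eq_of_mul_eq_one_right (D.d_cancel t)]
        exact D.good_d hg _
    | one => simp
    | mul a b _ _ ha hb =>
      exact ⟨fun g hg => by rw [mul_assoc]; exact ha.1 _ (hb.1 g hg),
        fun g hg => by rw [mul_inv_rev, mul_assoc]; exact hb.2 _ (ha.2 g hg)⟩
    | inv a _ ha => exact ⟨ha.2, by rw [inv_inv]; exact ha.1⟩
  suffices h : (∀ g, D.Good g → D.Good (γ * g)) ∧ ∀ g, D.Good g → D.Good (γ⁻¹ * g) from h.1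
  induction hγ using Subgroup.closure_induction with
  | mem x hx =>
    rcases hx with (hx | hx) | ⟨t, rfl⟩
    · exact ⟨hsz x hx, hsz _ (inv_mem hx)⟩
    · exact ⟨fun g hg => D.good_L hg hx, fun g hg => D.good_L hg (inv_mem hx)⟩
    · rw [← D.q_line t, D.q_inv (D.W.smul_mem t D.e₁_mem)]
      exact ⟨fun g hg => D.good_q hg (D.W.smul_mem t D.e₁_mem),
        fun g hg => D.good_q hg (neg_mem (D.W.smul_mem t D.e₁_mem))⟩
  | one => simp
  | mul a b _ _ ha hb =>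
    exact ⟨fun g hg => by rw [mul_assoc]; exact ha.1 _ (hb.1 g hg),
      fun g hg => by rw [mul_inv_rev, mul_assoc]; exact hb.2 _ (ha.2 g hg)⟩
  | inv a _ ha => exact ⟨ha.2, by rw [inv_inv]; exact ha.1⟩

theorem good_one : D.Good₀ 1 := ⟨1, one_mem _, 1, one_mem _, 1, one_mem _, by group⟩

theorem stab_mem_P {γ : E} (hγ : γ ∈ D.Γ) (h : D.ρ γ D.e₀ = D.e₀) : γ ∈ D.P := by
  have hg : D.Good γ := by simpa using D.good_Γ hγ 1 (Or.inl D.good_one)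
  have hpt : D.pt γ = D.e₀ := h
  rcases hg with hg | ⟨ha, -, -⟩
  · have := D.good₀_func D.good_one hg (by rw [hpt]; exact ρ_one D.ρ _)
    rwa [inv_one, one_mul] at this
  · rw [hpt, cA, D.h00] at ha
    exact absurd ha one_ne_zero

/-- The generated group is separated by its action. -/
theorem Γ_inj : Inj D.ρ D.Γ :=
  fun γ hγ h => D.P_inj γ (D.stab_mem_P hγ (h _)) h

theorem mem_W {g : V ≃ₗ[F] V} (hg : ∀ x y, D.ω (g x) (g y) = D.ω x y)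
    (hfix : ∀ y, D.ω D.e₀ y = 0 → D.ω D.f₀ y = 0 → (∀ w ∈ D.W, D.ω w y = 0) → g y = y) {z : V}
    (hz : ∀ y, D.ω D.e₀ y = 0 → D.ω D.f₀ y = 0 → (∀ w ∈ D.W, D.ω w y = 0) → D.ω z y = 0) :
    g z - D.cA (g z) • D.e₀ - D.cB (g z) • D.f₀ ∈ D.W := by
  set r := g z - D.cA (g z) • D.e₀ - D.cB (g z) • D.f₀ with hr
  obtain ⟨hr1, hr2⟩ := D.eq_pair_add (g z)
  rw [← hr] at hr1 hr2
  obtain ⟨p, hp, hp'⟩ := D.proj r
  suffices h : r - p = 0 by rw [sub_eq_zero] at h; rw [h]; exact hp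
  refine D.nondeg _ fun y => ?_
  obtain ⟨hy1, hy2⟩ := D.eq_pair_add y
  set y' := y - D.cA y • D.e₀ - D.cB y • D.f₀ with hy'
  obtain ⟨py, hpy, hpy'⟩ := D.proj y'
  set y'' := y' - py with hy''
  have h1 : D.ω D.e₀ y'' = 0 := by rw [hy'', map_sub, hy1, (D.orth py hpy).1, sub_zero]
  have h2 : D.ω D.f₀ y'' = 0 := by rw [hy'', map_sub, hy2, (D.orth py hpy).2, sub_zero]
  have h3 : D.ω (r - p) y'' = 0 := by
    have e : D.ω (g z) y'' = 0 := by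
      rw [← hfix y'' h1 h2 hpy', hg]; exact hz y'' h1 h2 hpy'
    have e2 := hpy' p hp
    simp only [hr, map_sub, map_smul, LinearMap.sub_apply, LinearMap.smul_apply, e, h1, h2, smul_zero,
      sub_zero, zero_sub, neg_eq_zero]
    exact e2
  have h4 : D.ω (r - p) py = 0 := by rw [D.swap, hp' py hpy, neg_zero]
  have h5 : D.ω (r - p) D.e₀ = 0 := by
    rw [map_sub, LinearMap.sub_apply, (D.h01 hp).1, D.swap r, hr1]; simp
  have h6 : D.ω (r - p) D.f₀ = 0 := by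
    rw [map_sub, LinearMap.sub_apply, (D.h01 hp).2, D.swap r, hr2]; simp
  have e : y = D.cA y • D.e₀ + D.cB y • D.f₀ + (y'' + py) := by rw [hy'', hy']; abel
  rw [e, map_add, map_add, map_add, map_smul, map_smul, h3, h4, h5, h6]
  simp

theorem exists_point {a b : F} {v : V} (hv : v ∈ D.W) (h : a ≠ 0 ∨ b ≠ 0) :
    ∃ γ ∈ D.Γ, D.pt γ = a • D.e₀ + b • D.f₀ + v := by
  obtain ⟨s, hs, hse⟩ := D.exists_sz h
  have hsz := D.cd_le_sz hs
  by_cases hb : b ≠ 0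
  · refine ⟨D.q (b⁻¹ • v) * s, mul_mem (D.q_mem_Γ (D.W.smul_mem _ hv)) (D.sz_le_Γ hsz), ?_⟩
    rw [D.pt_mul, pt, hse, D.q_acts (D.W.smul_mem _ hv), eich_apply]
    simp [D.alt D.e₀, D.h00, (D.h01 hv).1, (D.h01 hv).2, smul_smul, hb]
  rw [not_not] at hb
  have ha := h.resolve_right (by simp [hb])
  refine ⟨D.n (-(a⁻¹ • v)) * s,
    mul_mem (D.n_mem_Γ (neg_mem (D.W.smul_mem _ hv))) (D.sz_le_Γ hsz), ?_⟩
  rw [D.pt_mul, pt, hse, D.n_acts (neg_mem (D.W.smul_mem _ hv)), eich_apply, hb]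
  simp [D.h00', (D.h01 hv).1, smul_smul, ha]

/-- All isometries of the next level are images. -/
theorem Γ_all {g : V ≃ₗ[F] V} (hg : ∀ x y, D.ω (g x) (g y) = D.ω x y)
    (hfix : ∀ y, D.ω D.e₀ y = 0 → D.ω D.f₀ y = 0 → (∀ w ∈ D.W, D.ω w y = 0) → g y = y) :
    ∃ γ ∈ D.Γ, D.ρ γ = g := by
  have hv := D.mem_W hg hfix (z := D.e₀) fun y h _ _ => h
  set a := D.cA (g D.e₀)
  set b := D.cB (g D.e₀)
  set v := g D.e₀ - a • D.e₀ - b • D.f₀ with hvdef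
  have he : g D.e₀ = a • D.e₀ + b • D.f₀ + v := by rw [hvdef]; abel
  obtain ⟨γ, hγ, hγe⟩ : ∃ γ ∈ D.Γ, D.pt γ = g D.e₀ := by
    by_cases h : a ≠ 0 ∨ b ≠ 0
    · rw [he]; exact D.exists_point hv h
    push Not at h
    have hv0 : v ≠ 0 := by
      intro h0
      rw [h.1, h.2, h0, zero_smul, zero_smul, add_zero, add_zero] at he
      have := congrArg (fun z => D.ω z D.f₀) (g.map_eq_zero_iff.1 he)
      simp [D.h00] at this
    obtain ⟨u, hu, huv⟩ : ∃ u ∈ D.W, D.ω v u ≠ 0 := by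
      by_contra hc; push Not at hc; exact hv0 (D.nondegW v hv hc)
    obtain ⟨γ, hγ, hγe⟩ := D.exists_point (a := D.ω v u) (b := 0) hv (Or.inl huv)
    refine ⟨D.q u * γ, mul_mem (D.q_mem_Γ hu) hγ, ?_⟩
    rw [D.pt_mul, hγe, he, h.1, h.2, D.q_acts hu, eich_apply]
    simp [D.alt D.e₀, (D.h01 hu).1, D.orth_e₀ hv, D.swap u v]
  set g' := g.trans (D.ρ γ⁻¹) with hg'
  have g'0 : g' D.e₀ = D.e₀ := by
    rw [hg', LinearEquiv.trans_apply, ← hγe, pt, ρ_inv]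
  have g'iso : ∀ x y, D.ω (g' x) (g' y) = D.ω x y := fun x y => by
    rw [hg', LinearEquiv.trans_apply, LinearEquiv.trans_apply, D.isom, hg]
  have Γfix : ∀ k ∈ D.Γ, ∀ y, D.ω D.e₀ y = 0 → D.ω D.f₀ y = 0 → (∀ w ∈ D.W, D.ω w y = 0) →
      D.ρ k y = y := by
    intro k hk y h1 h2 h3
    induction hk using Subgroup.closure_induction with
    | mem x hx =>
      rcases hx with (hx | hx) | ⟨t, rfl⟩
      · exact D.Sz_fix x hx y h1 h2
      · exact (D.L_fix x hx).2.1 y h3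
      · rw [D.x_acts, eich_apply]; simp [h1, h3 _ D.e₁_mem]
    | one => exact ρ_one D.ρ y
    | mul a b _ _ ha hb => rw [ρ_mul, hb, ha]
    | inv a _ ha => exact ρ_inv_fix D.ρ ha
  have g'fix : ∀ y, D.ω D.e₀ y = 0 → D.ω D.f₀ y = 0 → (∀ w ∈ D.W, D.ω w y = 0) → g' y = y := by
    intro y h1 h2 h3
    rw [hg', LinearEquiv.trans_apply, hfix y h1 h2 h3]
    exact Γfix _ (inv_mem hγ) y h1 h2 h3
  have hu := D.mem_W g'iso g'fix (z := D.f₀) fun y _ h _ => h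
  have hb1 : D.cB (g' D.f₀) = 1 := by
    rw [cB]; conv_lhs => rw [← g'0]
    rw [g'iso, D.h00]
  rw [hb1, one_smul] at hu
  set t := D.cA (g' D.f₀)
  set u := g' D.f₀ - t • D.e₀ - D.f₀ with hudef
  set p := D.q u * D.c t with hp
  have hpP : p ∈ D.P := mul_mem (D.q_mem_P hu) (D.c_mem_P t)
  have hpf : D.ρ p D.f₀ = g' D.f₀ := by
    rw [show g' D.f₀ = D.f₀ + u + t • D.e₀ by rw [hudef]; abel,
      hp, D.acts_mul (D.q_acts hu) (D.c_acts t) (D.orth_e₀ hu) (map_zero _), eich_apply]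
    simp [D.h00, (D.h01 hu).2]
  set h := g'.trans (D.ρ p⁻¹) with hh
  have h0 : h D.e₀ = D.e₀ := by
    rw [hh, LinearEquiv.trans_apply, g'0, ρ_inv_fix D.ρ (D.P_apply hpP)]
  have h1 : h D.f₀ = D.f₀ := by rw [hh, LinearEquiv.trans_apply, ← hpf, ρ_inv]
  have hiso : ∀ x y, D.ω (h x) (h y) = D.ω x y := fun x y => by
    show D.ω (D.ρ p⁻¹ (g' x)) (D.ρ p⁻¹ (g' y)) = _
    rw [D.isom, g'iso]
  have hfix' : ∀ y, D.ω D.e₀ y = 0 → D.ω D.f₀ y = 0 → (∀ w ∈ D.W, D.ω w y = 0) → h y = y := by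
    intro y a b c
    rw [hh, LinearEquiv.trans_apply, g'fix y a b c]
    exact Γfix _ (inv_mem (D.P_le_Γ hpP)) y a b c
  have hF : FixIsom D.ω D.W h := by
    refine ⟨hiso, fun y hy => ?_, fun w hw => ?_⟩
    · obtain ⟨k1, k2⟩ := D.eq_pair_add y
      have := hfix' _ k1 k2 fun w hw => by simp [hy w hw, (D.h01 hw).1, (D.h01 hw).2]
      rwa [map_sub, map_sub, map_smul, map_smul, h0, h1, sub_left_inj, sub_left_inj] at this
    · have := D.mem_W hiso hfix' (z := w) fun y _ _ c => c w hw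
      have ea : D.cA (h w) = 0 := by rw [cA, ← h1, hiso, (D.h01 hw).2]
      have eb : D.cB (h w) = 0 := by rw [cB, ← h0, hiso, D.orth_e₀ hw]
      simpa [ea, eb] using this
  obtain ⟨l, hl, hlh⟩ := D.L_all h hF
  refine ⟨γ * p * l, mul_mem (mul_mem hγ (D.P_le_Γ hpP)) (D.L_le_Γ hl), LinearEquiv.ext fun y => ?_⟩
  rw [ρ_mul, ρ_mul, hlh, hh, LinearEquiv.trans_apply, ρ_inv', hg', LinearEquiv.trans_apply, ρ_inv']

end Data

end CfsgLib.SpAmalgam
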