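/-
The downward induction over the hyperbolic basis: the amalgam of the subgroups `S k` and `M i` of a symplectic
matrix group has the group as its universal completion.
-/
import Cfsg.Agent.Lib.SpAmalgam.Step
import Cfsg.Agent.Lib.Sp.Group

set_option autoImplicit false

namespace CfsgLib.SpAmalgam

open Matrix
open LinearMap (BilinForm)

variable (F : Type*) [Field F] (n : ℕ)

/-- The standard vector space. -/
abbrev Vec : Type _ := Fin n ⊕ Fin n → F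

variable {F n}

/-- The basis vector `e k`. -/
def ee (k : Fin n) : Vec F n := Pi.single (Sum.inl k) 1

/-- The basis vector `f k`. -/
def ff (k : Fin n) : Vec F n := Pi.single (Sum.inr k) 1

theorem ee_inl (k l : Fin n) : ee (F := F) k (.inl l) = if l = k then 1 else 0 := by
  simp [ee, Pi.single_apply]

theorem ee_inr (k l : Fin n) : ee (F := F) k (.inr l) = 0 := by simp [ee]

theorem ff_inl (k l : Fin n) : ff (F := F) k (.inl l) = 0 := by simp [ff]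

theorem ff_inr (k l : Fin n) : ff (F := F) k (.inr l) = if l = k then 1 else 0 := by
  simp [ff, Pi.single_apply]

variable (F n) in
/-- The form with `ω (e k) (f k) = 1`. -/
noncomputable def form : BilinForm F (Vec F n) := -(CfsgLib.Sp.sympBilin n F)

theorem form_apply (u v : Vec F n) :
    form F n u v = ∑ i, (u (.inl i) * v (.inr i) - u (.inr i) * v (.inl i)) := by
  rw [form, LinearMap.neg_apply, LinearMap.neg_apply, CfsgLib.Sp.sympBilin_apply,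
    CfsgLib.Sp.sympForm_eq_sum, ← Finset.sum_neg_distrib]
  exact Finset.sum_congr rfl fun i _ => by ring

theorem form_alt : (form F n).IsAlt := fun v => by
  rw [form_apply]; exact Finset.sum_eq_zero fun i _ => by ring

theorem form_ee (k : Fin n) (y : Vec F n) : form F n (ee k) y = y (.inr k) := by
  rw [form_apply, Finset.sum_eq_single k]
  · simp [ee]
  · intro i _ hi; simp [ee, hi]
  · simp

theorem form_ff (k : Fin n) (y : Vec F n) : form F n (ff k) y = -y (.inl k) := by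
  rw [form_apply, Finset.sum_eq_single k]
  · simp [ff]
  · intro i _ hi; simp [ff, hi]
  · simp

theorem form_ff_right (k : Fin n) (y : Vec F n) : form F n y (ff k) = y (.inl k) := by
  rw [alt_swap form_alt, form_ff, neg_neg]

theorem form_ee_right (k : Fin n) (y : Vec F n) : form F n y (ee k) = -y (.inr k) := by
  rw [alt_swap form_alt, form_ee]

variable (F n) in
/-- The vectors supported on the indices `≥ k`. -/
def U (k : ℕ) : Submodule F (Vec F n) where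
  carrier := {y | ∀ l : Fin n, (l : ℕ) < k → y (.inl l) = 0 ∧ y (.inr l) = 0}
  add_mem' ha hb l hl := by simp [ha l hl, hb l hl]
  zero_mem' l _ := by simp
  smul_mem' c y hy l hl := by simp [hy l hl]

theorem mem_U {k : ℕ} {y : Vec F n} :
    y ∈ U F n k ↔ ∀ l : Fin n, (l : ℕ) < k → y (.inl l) = 0 ∧ y (.inr l) = 0 := Iff.rfl

theorem ee_mem_U {k : ℕ} {l : Fin n} (h : k ≤ l) : ee (F := F) l ∈ U F n k := fun m hm => by
  have : m ≠ l := by rintro rfl; omega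
  simp [ee, this]

theorem ff_mem_U {k : ℕ} {l : Fin n} (h : k ≤ l) : ff (F := F) l ∈ U F n k := fun m hm => by
  have : m ≠ l := by rintro rfl; omega
  simp [ff, this]

theorem form_U {k : ℕ} {w : Vec F n} (hw : w ∈ U F n k) {l : Fin n} (hl : (l : ℕ) < k) :
    form F n w (ee l) = 0 ∧ form F n w (ff l) = 0 := by
  rw [form_ee_right, form_ff_right, (hw l hl).1, (hw l hl).2]; simp

variable (F n) in
/-- The symplectic matrix group. -/
abbrev SpMat : Type _ := ↥(Matrix.symplecticGroup (Fin n) F)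

theorem eq_of_mulVec {A B : SpMat F n} (h : ∀ y, A.1 *ᵥ y = B.1 *ᵥ y) : A = B :=
  Subtype.ext (Matrix.ext_of_mulVec_single fun i => h _)

theorem form_mulVec (A : SpMat F n) (u v : Vec F n) :
    form F n (A.1 *ᵥ u) (A.1 *ᵥ v) = form F n u v := by
  simp [form, CfsgLib.Sp.sympBilin_apply, CfsgLib.Sp.sympForm_mulVec]

theorem toEquiv_apply (A : SpMat F n) (y : Vec F n) : CfsgLib.Sp.toEquiv n F A y = A.1 *ᵥ y := rfl

theorem mulVec_eq_sum (A : SpMat F n) (y : Vec F n) :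
    A.1 *ᵥ y = ∑ l, y (.inl l) • (A.1 *ᵥ ee l) + ∑ l, y (.inr l) • (A.1 *ᵥ ff l) := by
  conv_lhs => rw [show y = ∑ l, y (.inl l) • ee l + ∑ l, y (.inr l) • ff l by
    funext i
    rcases i with i | i <;> simp [ee, ff, Pi.single_apply, Finset.sum_apply]]
  simp [Matrix.mulVec_add, Matrix.mulVec_sum, Matrix.mulVec_smul]

/-- A matrix fixes a vector if it fixes the basis vectors in its support. -/
theorem mulVec_fix {A : SpMat F n} {y : Vec F n}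
    (he : ∀ l, y (.inl l) ≠ 0 → A.1 *ᵥ ee l = ee l) (hf : ∀ l, y (.inr l) ≠ 0 → A.1 *ᵥ ff l = ff l) :
    A.1 *ᵥ y = y := by
  conv_rhs => rw [← Matrix.one_mulVec y, show (1 : Matrix (Fin n ⊕ Fin n) (Fin n ⊕ Fin n) F) = (1 : SpMat F n).1
    from rfl, mulVec_eq_sum]
  rw [mulVec_eq_sum]
  simp only [OneMemClass.coe_one, Matrix.one_mulVec]
  refine congrArg₂ (· + ·) (Finset.sum_congr rfl fun l _ => ?_) (Finset.sum_congr rfl fun l _ => ?_)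
  · by_cases h : y (.inl l) = 0
    · simp [h]
    · rw [he l h]
  · by_cases h : y (.inr l) = 0
    · simp [h]
    · rw [hf l h]

theorem eq_of_basis {A B : SpMat F n} (he : ∀ l, A.1 *ᵥ ee l = B.1 *ᵥ ee l)
    (hf : ∀ l, A.1 *ᵥ ff l = B.1 *ᵥ ff l) : A = B :=
  eq_of_mulVec fun y => by rw [mulVec_eq_sum, mulVec_eq_sum B]; simp [he, hf]

theorem fixIsom_U {k : ℕ} {A : SpMat F n}
    (he : ∀ l : Fin n, (l : ℕ) < k → A.1 *ᵥ ee l = ee l ∧ A.1 *ᵥ ff l = ff l) :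
    FixIsom (form F n) (U F n k) (CfsgLib.Sp.toEquiv n F A) := by
  refine ⟨form_mulVec A, fun y hy => mulVec_fix (fun l hl => (he l ?_).1) (fun l hl => (he l ?_).2),
    fun w hw l hl => ?_⟩
  · by_contra h
    exact hl (by simpa [form_ff] using hy (ff l) (ff_mem_U (not_lt.1 h)))
  · by_contra h
    exact hl (by simpa [form_ee] using hy (ee l) (ee_mem_U (not_lt.1 h)))
  · constructor
    · rw [toEquiv_apply, ← form_ff_right l (A.1 *ᵥ w), ← (he l hl).2, form_mulVec]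
      exact (form_U hw hl).2
    · rw [toEquiv_apply, ← neg_eq_zero, ← form_ee_right l (A.1 *ᵥ w), ← (he l hl).1, form_mulVec]
      exact (form_U hw hl).1

theorem fixIsom_U_apply {k : ℕ} {g : Vec F n ≃ₗ[F] Vec F n} (hg : FixIsom (form F n) (U F n k) g) {l : Fin n}
    (hl : (l : ℕ) < k) : g (ee l) = ee l ∧ g (ff l) = ff l :=
  ⟨hg.2.1 _ fun _ hw => (form_U hw hl).1, hg.2.1 _ fun _ hw => (form_U hw hl).2⟩

theorem exists_mat {g : Vec F n ≃ₗ[F] Vec F n} (hg : ∀ x y, form F n (g x) (g y) = form F n x y) :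
    ∃ A : SpMat F n, ∀ y, A.1 *ᵥ y = g y := by
  have h : ∀ y, LinearMap.toMatrix' (g : Vec F n →ₗ[F] Vec F n) *ᵥ y = g y := fun y => by
    rw [← Matrix.toLin'_apply, Matrix.toLin'_toMatrix']; rfl
  refine ⟨⟨_, CfsgLib.Sp.mem_symplecticGroup_iff.2 fun u v => ?_⟩, h⟩
  have := hg u v
  simp [form, CfsgLib.Sp.sympBilin_apply] at this
  rw [h, h, this]

/-- An Eichler transformation as a symplectic matrix. -/
theorem exists_eich_mat (a b : Vec F n) (t : F) (hb : form F n a b = 0) :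
    ∃ A : SpMat F n, ∀ y, A.1 *ᵥ y = eich (form F n) a b t y :=
  exists_mat (g := eichEquiv form_alt a b t hb) (eich_preserves form_alt t hb)

/-- The amalgam. -/
structure Amalgam (F : Type*) [Field F] (n : ℕ) (H : Type*) [Group H] where
  hF : ∃ a : F, a ≠ 0 ∧ a ≠ 1
  S : Fin n → Subgroup (SpMat F n)
  M : Fin n → Subgroup (SpMat F n)
  memS : ∀ j A, A ∈ S j ↔ ∀ l : Fin n, l ≠ j → A.1 *ᵥ ee l = ee l ∧ A.1 *ᵥ ff l = ff l
  memM : ∀ i : Fin n, (i : ℕ) + 1 < n → ∀ A, A ∈ M i ↔ (∀ l : Fin n, A.1 *ᵥ ee l = ee l) ∧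
    ∀ l : Fin n, (l : ℕ) ≠ i → (l : ℕ) ≠ (i : ℕ) + 1 → A.1 *ᵥ ff l = ff l
  σ : ∀ j, ↥(S j) →* H
  μ : ∀ i, ↥(M i) →* H
  hSS : ∀ j l : Fin n, j ≠ l → ∃ Ψ : ↥(S j ⊔ S l) →* H,
    (∀ g hg, Ψ ⟨g, Subgroup.mem_sup_left hg⟩ = σ j ⟨g, hg⟩) ∧
      ∀ g hg, Ψ ⟨g, Subgroup.mem_sup_right hg⟩ = σ l ⟨g, hg⟩
  hMM : ∀ i i' : Fin n, i ≠ i' → (i : ℕ) + 1 < n → (i' : ℕ) + 1 < n → ∃ Ψ : ↥(M i ⊔ M i') →* H,
    (∀ g hg, Ψ ⟨g, Subgroup.mem_sup_left hg⟩ = μ i ⟨g, hg⟩) ∧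
      ∀ g hg, Ψ ⟨g, Subgroup.mem_sup_right hg⟩ = μ i' ⟨g, hg⟩
  hMS : ∀ i j : Fin n, (i : ℕ) + 1 < n → ∃ Ψ : ↥(M i ⊔ S j) →* H,
    (∀ g hg, Ψ ⟨g, Subgroup.mem_sup_left hg⟩ = μ i ⟨g, hg⟩) ∧
      ∀ g hg, Ψ ⟨g, Subgroup.mem_sup_right hg⟩ = σ j ⟨g, hg⟩

namespace Amalgam

variable {H : Type*} [Group H] (𝔄 : Amalgam F n H)

/-- The action through the second component. -/
noncomputable def act : H × SpMat F n →* (Vec F n ≃ₗ[F] Vec F n) :=
  (CfsgLib.Sp.toEquiv n F).comp (MonoidHom.snd _ _)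

theorem act_apply (g : H × SpMat F n) (y : Vec F n) : act g y = g.2.1 *ᵥ y := rfl

theorem act_eq {g g' : H × SpMat F n} (h : ∀ y, act g y = act g' y) : g.2 = g'.2 := eq_of_mulVec h

/-- The lifts of `S j`. -/
def GS (j : Fin n) : Subgroup (H × SpMat F n) := ((𝔄.σ j).prod (𝔄.S j).subtype).range

/-- The lifts of `M i`. -/
def GM (i : Fin n) : Subgroup (H × SpMat F n) := ((𝔄.μ i).prod (𝔄.M i).subtype).range

/-- The group generated by the lifts of index at least `k`. -/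
def Gen (k : ℕ) : Subgroup (H × SpMat F n) :=
  Subgroup.closure ({g | ∃ j : Fin n, k ≤ j ∧ g ∈ 𝔄.GS j} ∪
    {g | ∃ i : Fin n, k ≤ i ∧ (i : ℕ) + 1 < n ∧ g ∈ 𝔄.GM i})

theorem gS_mem {j : Fin n} {A : SpMat F n} (hA : A ∈ 𝔄.S j) : (𝔄.σ j ⟨A, hA⟩, A) ∈ 𝔄.GS j :=
  ⟨⟨A, hA⟩, rfl⟩

theorem gM_mem {i : Fin n} {A : SpMat F n} (hA : A ∈ 𝔄.M i) : (𝔄.μ i ⟨A, hA⟩, A) ∈ 𝔄.GM i :=
  ⟨⟨A, hA⟩, rfl⟩

theorem gS_snd {j : Fin n} {g : H × SpMat F n} (hg : g ∈ 𝔄.GS j) : g.2 ∈ 𝔄.S j := by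
  obtain ⟨⟨A, hA⟩, rfl⟩ := hg; exact hA

theorem gM_snd {i : Fin n} {g : H × SpMat F n} (hg : g ∈ 𝔄.GM i) : g.2 ∈ 𝔄.M i := by
  obtain ⟨⟨A, hA⟩, rfl⟩ := hg; exact hA

theorem gS_le_gen {j : Fin n} {k : ℕ} (h : k ≤ j) : 𝔄.GS j ≤ 𝔄.Gen k :=
  fun _ hg => Subgroup.subset_closure (Or.inl ⟨j, h, hg⟩)

theorem gM_le_gen {i : Fin n} {k : ℕ} (h : k ≤ i) (hi : (i : ℕ) + 1 < n) : 𝔄.GM i ≤ 𝔄.Gen k :=
  fun _ hg => Subgroup.subset_closure (Or.inr ⟨i, h, hi, hg⟩)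

theorem gen_anti {k k' : ℕ} (h : k ≤ k') : 𝔄.Gen k' ≤ 𝔄.Gen k := by
  rw [Gen, Subgroup.closure_le]
  rintro g (⟨j, hj, hg⟩ | ⟨i, hi, hi', hg⟩)
  · exact 𝔄.gS_le_gen (h.trans hj) hg
  · exact 𝔄.gM_le_gen (h.trans hi) hi' hg

theorem joint {A B : Subgroup (SpMat F n)} (φ : ↥A →* H) (ψ : ↥B →* H)
    (h : ∃ Ψ : ↥(A ⊔ B) →* H, (∀ g hg, Ψ ⟨g, Subgroup.mem_sup_left hg⟩ = φ ⟨g, hg⟩) ∧
      ∀ g hg, Ψ ⟨g, Subgroup.mem_sup_right hg⟩ = ψ ⟨g, hg⟩) :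
    ∃ K : Subgroup (H × SpMat F n), Inj act K ∧ (φ.prod A.subtype).range ≤ K ∧
      (ψ.prod B.subtype).range ≤ K := by
  obtain ⟨Ψ, h1, h2⟩ := h
  refine ⟨(Ψ.prod (A ⊔ B).subtype).range, ?_, ?_, ?_⟩
  · rintro _ ⟨g, rfl⟩ hfix
    have : (g : SpMat F n) = 1 := eq_of_mulVec fun y => by
      simpa [act_apply] using hfix y
    have hg : g = 1 := Subtype.ext this
    simp [hg]
  · rintro _ ⟨⟨g, hg⟩, rfl⟩
    exact ⟨⟨g, Subgroup.mem_sup_left hg⟩, Prod.ext (h1 g hg) rfl⟩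
  · rintro _ ⟨⟨g, hg⟩, rfl⟩
    exact ⟨⟨g, Subgroup.mem_sup_right hg⟩, Prod.ext (h2 g hg) rfl⟩

theorem jointMS (i j : Fin n) (hi : (i : ℕ) + 1 < n) :
    ∃ K, Inj act K ∧ 𝔄.GM i ≤ K ∧ 𝔄.GS j ≤ K := joint _ _ (𝔄.hMS i j hi)

theorem commute_of_act {K : Subgroup (H × SpMat F n)} (hK : Inj act K) {a b : H × SpMat F n} (ha : a ∈ K)
    (hb : b ∈ K) (h : ∀ y, act a (act b y) = act b (act a y)) : Commute a b :=
  hK.eq (mul_mem ha hb) (mul_mem hb ha) fun y => by rw [ρ_mul, ρ_mul, h]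

/-- The level `k` is faithful and full. -/
structure Level (k : ℕ) : Prop where
  inj : Inj act (𝔄.Gen k)
  fix : ∀ l ∈ 𝔄.Gen k, FixIsom (form F n) (U F n k) (act l)
  all : ∀ g, FixIsom (form F n) (U F n k) g → ∃ l ∈ 𝔄.Gen k, act l = g
  stab : ∀ i : Fin n, (i : ℕ) = k → k + 1 < n → ∀ l ∈ 𝔄.Gen k, act l (ee i) = ee i →
    l ∈ 𝔄.GM i ⊔ 𝔄.Gen (k + 1)

theorem gen_fix {k : ℕ} {l : H × SpMat F n} (hl : l ∈ 𝔄.Gen k) :
    FixIsom (form F n) (U F n k) (act l) := by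
  refine fixIsom_U fun p hp => ?_
  induction hl using Subgroup.closure_induction with
  | mem g hg =>
    rcases hg with ⟨j, hj, hg⟩ | ⟨i, hi, hi', hg⟩
    · exact (𝔄.memS j _).1 (𝔄.gS_snd hg) p (by rintro rfl; omega)
    · exact ⟨((𝔄.memM i hi' _).1 (𝔄.gM_snd hg)).1 p,
        ((𝔄.memM i hi' _).1 (𝔄.gM_snd hg)).2 p (by omega) (by omega)⟩
  | one => simp
  | mul a b _ _ ha hb =>
    exact ⟨(ρ_mul act a b _).trans ((congrArg (act a) hb.1).trans ha.1),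
      (ρ_mul act a b _).trans ((congrArg (act a) hb.2).trans ha.2)⟩
  | inv a _ ha =>
    exact ⟨ρ_inv_fix act (g := a) ha.1, ρ_inv_fix act (g := a) ha.2⟩

theorem level_last {k : ℕ} (hk : k + 1 = n) : 𝔄.Level k := by
  set j : Fin n := ⟨k, by omega⟩
  have hgen : 𝔄.Gen k = 𝔄.GS j := by
    refine le_antisymm ?_ (𝔄.gS_le_gen le_rfl)
    rw [Gen, Subgroup.closure_le]
    rintro g (⟨j', hj', hg⟩ | ⟨i, hi, hi', -⟩)
    · rwa [show j = j' from Fin.ext (by show k = (j' : ℕ); omega)]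
    · omega
  refine ⟨?_, fun l hl => 𝔄.gen_fix hl, fun g hg => ?_, fun i _ h => by omega⟩
  · rw [hgen]
    rintro _ ⟨g, rfl⟩ hfix
    have : g = 1 := Subtype.ext (eq_of_mulVec fun y => by simpa [act_apply] using hfix y)
    simp [this]
  · obtain ⟨A, hA⟩ := exists_mat hg.1
    have hAS : A ∈ 𝔄.S j := (𝔄.memS j A).2 fun l hl => by
      rw [hA, hA]
      refine fixIsom_U_apply hg ?_
      have : (l : ℕ) ≠ k := fun h => hl (Fin.ext h)
      omega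
    exact ⟨_, hgen ▸ 𝔄.gS_mem hAS, LinearEquiv.ext fun y => hA y⟩

section
variable {k : ℕ} (hk : k + 1 < n)

/-- The index `k`. -/
def i₀ : Fin n := ⟨k, by omega⟩

/-- The index `k + 1`. -/
def i₁ : Fin n := ⟨k + 1, hk⟩

theorem i₀_ne : i₀ hk ≠ i₁ hk := by simp [i₀, i₁, Fin.ext_iff]

theorem exists_M (a b c : F) : ∃ A ∈ 𝔄.M (i₀ hk),
    A.1 *ᵥ ff (i₀ hk) = ff (i₀ hk) + a • ee (i₀ hk) + b • ee (i₁ hk) ∧
      A.1 *ᵥ ff (i₁ hk) = ff (i₁ hk) + b • ee (i₀ hk) + c • ee (i₁ hk) := by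
  obtain ⟨A, hA⟩ := exists_eich_mat (ee (F := F) (i₀ hk)) (b • ee (i₁ hk)) a (by simp [form_ee, ee_inl, ee_inr, ff_inl, ff_inr])
  obtain ⟨B, hB⟩ := exists_eich_mat (ee (F := F) (i₁ hk)) 0 c (map_zero _)
  have hne := i₀_ne hk
  refine ⟨A * B, (𝔄.memM _ (by simpa [i₀] using hk) _).2 ⟨fun l => ?_, fun l h1 h2 => ?_⟩, ?_, ?_⟩
  · rw [Submonoid.coe_mul, ← Matrix.mulVec_mulVec, hB, hA]
    simp [eich_apply, form_ee, ee_inl, ee_inr, ff_inl, ff_inr]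
  · have e0 : l ≠ i₀ hk := fun h => h1 (by rw [h])
    have e1 : l ≠ i₁ hk := fun h => h2 (by rw [h]; rfl)
    rw [Submonoid.coe_mul, ← Matrix.mulVec_mulVec, hB, hA]
    simp [eich_apply, form_ee, ee_inl, ee_inr, ff_inl, ff_inr, e0, e0.symm, e1.symm]
  · rw [Submonoid.coe_mul, ← Matrix.mulVec_mulVec, hB, hA]
    simp [eich_apply, form_ee, ee_inl, ee_inr, ff_inl, ff_inr, hne, hne.symm]
    abel
  · rw [Submonoid.coe_mul, ← Matrix.mulVec_mulVec, hB, hA]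
    simp [eich_apply, form_ee, ee_inl, ee_inr, ff_inl, ff_inr, hne, hne.symm]
    abel

/-- The lift of the translation in `M`. -/
noncomputable def xk (t : F) : H × SpMat F n :=
  (𝔄.μ _ ⟨_, (𝔄.exists_M hk 0 t 0).choose_spec.1⟩, (𝔄.exists_M hk 0 t 0).choose)

theorem xk_mem (t : F) : 𝔄.xk hk t ∈ 𝔄.GM (i₀ hk) := 𝔄.gM_mem _

theorem xk_acts (t : F) :
    Acts act (form F n) (𝔄.xk hk t) (ee (i₀ hk)) (t • ee (i₁ hk)) 0 := by
  obtain ⟨X, hX⟩ := exists_eich_mat (ee (F := F) (i₀ hk)) (t • ee (i₁ hk)) 0 (by simp [form_ee, ee_inl, ee_inr, ff_inl, ff_inr])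
  obtain ⟨hA, hA1, hA2⟩ := (𝔄.exists_M hk 0 t 0).choose_spec
  rw [𝔄.memM _ (by simpa [i₀] using hk)] at hA
  intro y
  rw [act_apply, ← hX]
  refine congrArg (fun M : SpMat F n => M.1 *ᵥ y) (eq_of_basis (fun l => ?_) fun l => ?_)
  · rw [show (𝔄.xk hk t).2 = (𝔄.exists_M hk 0 t 0).choose from rfl, hA.1 l, hX]
    simp [eich_apply, form_ee, ee_inl, ee_inr, ff_inl, ff_inr]
  · rw [show (𝔄.xk hk t).2 = (𝔄.exists_M hk 0 t 0).choose from rfl, hX]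
    by_cases h0 : l = i₀ hk
    · rw [h0, hA1]; simp [eich_apply, form_ee, ee_inl, ee_inr, ff_inl, ff_inr, i₀_ne hk, (i₀_ne hk).symm]
    by_cases h1 : l = i₁ hk
    · rw [h1, hA2]; simp [eich_apply, form_ee, ee_inl, ee_inr, ff_inl, ff_inr, i₀_ne hk, (i₀_ne hk).symm]
    · rw [hA.2 l (fun h => h0 (Fin.ext h)) (fun h => h1 (Fin.ext h))]
      simp [eich_apply, form_ee, ee_inl, ee_inr, ff_inl, ff_inr, Ne.symm h0, Ne.symm h1]

theorem root_mem {j : Fin n} {a : Vec F n} (ha : a = ee j ∨ a = ff j) (t : F) :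
    ∃ A ∈ 𝔄.S j, ∀ y, A.1 *ᵥ y = eich (form F n) a 0 t y := by
  obtain ⟨A, hA⟩ := exists_eich_mat a 0 t (map_zero _)
  refine ⟨A, (𝔄.memS j A).2 fun l hl => ?_, hA⟩
  rw [hA, hA]
  rcases ha with rfl | rfl <;> simp [eich_apply, form_ee, form_ff, ee_inl, ee_inr, ff_inl, ff_inr, hl.symm]

theorem transvection_mem_M {i l : Fin n} (hi : (i : ℕ) + 1 < n) (hl : (l : ℕ) = i ∨ (l : ℕ) = (i : ℕ) + 1)
    {g : H × SpMat F n} {t : F} (hg : Acts act (form F n) g (ee l) 0 t) : g.2 ∈ 𝔄.M i := by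
  refine (𝔄.memM i hi _).2 ⟨fun p => ?_, fun p h1 h2 => ?_⟩
  · rw [← act_apply, hg, eich_apply]; simp [form_ee, ee_inl, ee_inr, ff_inl, ff_inr]
  · have : l ≠ p := fun h => by subst h; omega
    rw [← act_apply, hg, eich_apply]; simp [form_ee, ee_inl, ee_inr, ff_inl, ff_inr, this]

theorem sz_fix {s : H × SpMat F n} (hs : s ∈ 𝔄.GS (i₀ hk)) (y : Vec F n)
    (h0 : form F n (ee (i₀ hk)) y = 0) (h1 : form F n (ff (i₀ hk)) y = 0) : act s y = y := by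
  rw [form_ee] at h0
  rw [form_ff, neg_eq_zero] at h1
  have h := (𝔄.memS _ _).1 (𝔄.gS_snd hs)
  refine mulVec_fix (fun l hl => (h l ?_).1) (fun l hl => (h l ?_).2) <;> (rintro rfl; contradiction)

theorem sz_comm_act {s : H × SpMat F n} (hs : s ∈ 𝔄.GS (i₀ hk)) {l : H × SpMat F n}
    (hl : l ∈ 𝔄.Gen (k + 1)) (y : Vec F n) : act s (act l y) = act l (act s y) := by
  have he : (i₀ hk : ℕ) < k + 1 := Nat.lt_succ_self k
  obtain ⟨le, lf⟩ := fixIsom_U_apply (𝔄.gen_fix hl) he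
  set p : Vec F n := y (.inl (i₀ hk)) • ee (i₀ hk) + y (.inr (i₀ hk)) • ff (i₀ hk) with hp
  set r := y - p
  have hlp : ∀ a b : F, act l (a • ee (i₀ hk) + b • ff (i₀ hk)) = a • ee (i₀ hk) + b • ff (i₀ hk) := fun a b => by
    rw [map_add, map_smul, map_smul, le, lf]
  have r0 : form F n (ee (i₀ hk)) r = 0 ∧ form F n (ff (i₀ hk)) r = 0 := by
    simp [r, hp, form_ee, form_ff, ee_inl, ee_inr, ff_inl, ff_inr]
  have hlr : form F n (ee (i₀ hk)) (act l r) = 0 ∧ form F n (ff (i₀ hk)) (act l r) = 0 := by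
    constructor
    · conv_lhs => rw [← le]
      rw [(𝔄.gen_fix hl).1, r0.1]
    · conv_lhs => rw [← lf]
      rw [(𝔄.gen_fix hl).1, r0.2]
  have hsp : ∃ a b : F, act s p = a • ee (i₀ hk) + b • ff (i₀ hk) := by
    refine ⟨act s p (.inl (i₀ hk)), act s p (.inr (i₀ hk)), funext fun z => ?_⟩
    have key : ∀ q : Fin n, q ≠ i₀ hk → act s p (.inl q) = 0 ∧ act s p (.inr q) = 0 := by
      intro q hq
      obtain ⟨qe, qf⟩ := (𝔄.memS _ _).1 (𝔄.gS_snd hs) q hq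
      constructor
      · rw [← form_ff_right q (act s p), act_apply, ← qf, form_mulVec, form_ff_right]
        simp [hp, ee_inl, ee_inr, ff_inl, ff_inr, hq]
      · rw [← neg_eq_zero, ← form_ee_right q (act s p), act_apply, ← qe, form_mulVec, form_ee_right]
        simp [hp, ee_inl, ee_inr, ff_inl, ff_inr, hq]
    rcases z with q | q <;> by_cases hq : q = i₀ hk <;>
      first | (subst hq; simp [ee_inl, ee_inr, ff_inl, ff_inr]) | simp [key q hq, ee_inl, ee_inr, ff_inl, ff_inr, hq]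
  obtain ⟨a, b, hab⟩ := hsp
  have e : p + r = y := add_sub_cancel p y
  have hp' : act l p = p := hlp _ _
  rw [← congrArg (act l) e, ← congrArg (act s) e, map_add (act l) p r, map_add (act s) p r,
    map_add (act s), hp', map_add (act l), 𝔄.sz_fix hk hs r r0.1 r0.2,
    𝔄.sz_fix hk hs _ hlr.1 hlr.2, hab, hlp]

theorem stab_comm_act {l : H × SpMat F n} (hl : l ∈ 𝔄.Gen (k + 1)) (h : act l (ee (i₁ hk)) = ee (i₁ hk))
    (t : F) (y : Vec F n) : act l (act (𝔄.xk hk t) y) = act (𝔄.xk hk t) (act l y) := by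
  have hF := 𝔄.gen_fix hl
  have he := (fixIsom_U_apply hF (show (i₀ hk : ℕ) < k + 1 from Nat.lt_succ_self k)).1
  rw [𝔄.xk_acts, 𝔄.xk_acts, eich_apply, eich_apply]
  simp only [map_add, map_smul, he, h]
  have k1 : form F n (ee (i₀ hk)) (act l y) = form F n (ee (i₀ hk)) y := by
    conv_lhs => rw [← he]
    rw [hF.1]
  have k2 : form F n (ee (i₁ hk)) (act l y) = form F n (ee (i₁ hk)) y := by
    conv_lhs => rw [← h]
    rw [hF.1]
  simp only [LinearMap.smul_apply, k1, k2]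

theorem xk_stab (h1 : 𝔄.Level (k + 1)) {l : H × SpMat F n} (hl : l ∈ 𝔄.Gen (k + 1))
    (hle : act l (ee (i₁ hk)) = ee (i₁ hk)) (t : F) : Commute l (𝔄.xk hk t) := by
  by_cases hn : k + 2 = n
  · have hl' : l ∈ 𝔄.GS (i₁ hk) := by
      refine (Subgroup.closure_le _).2 ?_ hl
      rintro g (⟨j, hj, hg⟩ | ⟨i, hi, hi', -⟩)
      · rwa [show i₁ hk = j from Fin.ext (show k + 1 = (j : ℕ) by omega)]
      · omega
    obtain ⟨K, hK, hKM, hKS⟩ := 𝔄.jointMS (i₀ hk) (i₁ hk) (by simpa [i₀] using hk)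
    exact commute_of_act hK (hKS hl') (hKM (𝔄.xk_mem hk t)) (𝔄.stab_comm_act hk hl hle t)
  · have hk2 : k + 1 + 1 < n := by omega
    have h := h1.stab (i₁ hk) rfl hk2 l hl hle
    suffices hC : 𝔄.GM (i₁ hk) ⊔ 𝔄.Gen (k + 1 + 1) ≤ Subgroup.centralizer {𝔄.xk hk t} from
      Subgroup.mem_centralizer_singleton_iff.1 (hC h)
    refine sup_le (fun g hg => Subgroup.mem_centralizer_singleton_iff.2 ?_) ((Subgroup.closure_le _).2 ?_)
    · obtain ⟨K, hK, hK1, hK2⟩ := joint _ _ (𝔄.hMM (i₀ hk) (i₁ hk) (i₀_ne hk) (by simpa [i₀] using hk)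
        (by simpa [i₁] using hk2))
      have hi2 : (i₁ hk : ℕ) + 1 < n := hk2
      have hgen : g ∈ 𝔄.Gen (k + 1) := 𝔄.gM_le_gen (i := i₁ hk) le_rfl hi2 hg
      have hge : act g (ee (i₁ hk)) = ee (i₁ hk) := by
        rw [act_apply]; exact ((𝔄.memM (i₁ hk) hi2 g.2).1 (𝔄.gM_snd hg)).1 (i₁ hk)
      exact commute_of_act hK (hK2 hg) (hK1 (𝔄.xk_mem hk t)) (𝔄.stab_comm_act hk hgen hge t)
    · rintro g hg
      refine Subgroup.mem_centralizer_singleton_iff.2 ?_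
      have hgen : g ∈ 𝔄.Gen (k + 1 + 1) := Subgroup.subset_closure hg
      have hge : act g (ee (i₁ hk)) = ee (i₁ hk) :=
        (fixIsom_U_apply (𝔄.gen_fix hgen) (Nat.lt_succ_self (k + 1))).1
      have hact := 𝔄.stab_comm_act hk (𝔄.gen_anti (Nat.le_succ _) hgen) hge t
      rcases hg with ⟨j, hj, hg⟩ | ⟨i, hi, hi', hg⟩
      · obtain ⟨K, hK, hKM, hKS⟩ := 𝔄.jointMS (i₀ hk) j (by simpa [i₀] using hk)
        exact commute_of_act hK (hKS hg) (hKM (𝔄.xk_mem hk t)) hact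
      · obtain ⟨K, hK, hK1, hK2⟩ := joint _ _ (𝔄.hMM (i₀ hk) i
          (Fin.ne_of_val_ne (show k ≠ _ by omega)) (by simpa [i₀] using hk) hi')
        exact commute_of_act hK (hK2 hg) (hK1 (𝔄.xk_mem hk t)) hact

/-- The data of the step at `k`. -/
noncomputable def data (h1 : 𝔄.Level (k + 1)) : Data F (Vec F n) (H × SpMat F n) where
  ρ := act
  ω := form F n
  alt := form_alt
  nondeg u hu := funext fun z => by
    rcases z with q | q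
    · simpa [form_ff_right] using hu (ff q)
    · simpa [form_ee_right] using hu (ee q)
  isom g x y := form_mulVec g.2 x y
  hF := 𝔄.hF
  e₀ := ee (i₀ hk)
  f₀ := ff (i₀ hk)
  e₁ := ee (i₁ hk)
  f₁ := ff (i₁ hk)
  W := U F n (k + 1)
  h00 := by simp [form_ee, ee_inl, ee_inr, ff_inl, ff_inr]
  h11 := by simp [form_ee, ee_inl, ee_inr, ff_inl, ff_inr]
  e₁_mem := ee_mem_U le_rfl
  f₁_mem := ff_mem_U le_rfl
  orth w hw := by
    rw [form_ee, form_ff, (hw (i₀ hk) (Nat.lt_succ_self k)).1, (hw (i₀ hk) (Nat.lt_succ_self k)).2]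
    simp
  proj y := by
    refine ⟨fun z => if k + 1 ≤ (Sum.elim id id z : Fin n).val then y z else 0, fun l hl => ?_, fun w hw => ?_⟩
    · simp [not_le.2 hl]
    · rw [form_apply]
      refine Finset.sum_eq_zero fun i _ => ?_
      by_cases hi : k + 1 ≤ (i : ℕ)
      · simp [hi, Nat.lt_of_succ_le hi]
      · simp [hw i (not_le.1 hi)]
  L := 𝔄.Gen (k + 1)
  Sz := 𝔄.GS (i₀ hk)
  x := 𝔄.xk hk
  L_inj := h1.inj
  L_fix := h1.fix
  L_all := h1.all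
  Sz_fix _ hs y := 𝔄.sz_fix hk hs y
  Sz_e t := by
    obtain ⟨A, hA, hA'⟩ := 𝔄.root_mem (j := i₀ hk) (Or.inl rfl) t
    exact ⟨_, 𝔄.gS_mem hA, hA'⟩
  Sz_f t := by
    obtain ⟨A, hA, hA'⟩ := 𝔄.root_mem (j := i₀ hk) (Or.inr rfl) t
    exact ⟨_, 𝔄.gS_mem hA, hA'⟩
  x_acts := 𝔄.xk_acts hk
  K_inj := by
    obtain ⟨K, hK, hKM, hKS⟩ := 𝔄.jointMS (i₀ hk) (i₀ hk) (by simpa [i₀] using hk)
    suffices h : ∀ g, g ∈ ((𝔄.GS (i₀ hk) : Set (H × SpMat F n)) ∪ Set.range (𝔄.xk hk) ∪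
        {l | l ∈ 𝔄.Gen (k + 1) ∧ ∃ β, Acts act (form F n) l (ee (i₁ hk)) 0 β}) → g ∈ K from
      fun g hg => hK g ((Subgroup.closure_le K).2 h hg)
    rintro g ((hs | ⟨t, rfl⟩) | ⟨hg, β, hβ⟩)
    · exact hKS hs
    · exact hKM (𝔄.xk_mem hk t)
    · obtain ⟨A, hA, hA'⟩ := 𝔄.root_mem (j := i₁ hk) (Or.inl rfl) β
      have hgS : g = (𝔄.σ _ ⟨A, hA⟩, A) :=
        h1.inj.eq hg (𝔄.gS_le_gen (j := i₁ hk) le_rfl (𝔄.gS_mem hA)) fun y => by
          rw [hβ]; exact (hA' y).symm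
      have hAM : A ∈ 𝔄.M (i₀ hk) :=
        𝔄.transvection_mem_M (l := i₁ hk) (g := (1, A)) (by simpa [i₀] using hk) (Or.inr rfl) (t := β) hA'
      obtain ⟨J, hJ, hJM, hJS⟩ := 𝔄.jointMS (i₀ hk) (i₁ hk) (by simpa [i₀] using hk)
      have : g = (𝔄.μ _ ⟨A, hAM⟩, A) := by
        rw [hgS]; exact hJ.eq (hJS (𝔄.gS_mem hA)) (hJM (𝔄.gM_mem hAM)) fun y => rfl
      rw [this]; exact hKM (𝔄.gM_mem hAM)
  J_inj := by
    obtain ⟨K, hK, hKM, hKS⟩ := 𝔄.jointMS (i₀ hk) (i₁ hk) (by simpa [i₀] using hk)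
    suffices h : ∀ g, g ∈ ({s | s ∈ 𝔄.GS (i₀ hk) ∧ ∃ t, Acts act (form F n) s (ee (i₀ hk)) 0 t} ∪
        Set.range (𝔄.xk hk) ∪ {l | l ∈ 𝔄.Gen (k + 1) ∧
          FixIsom (form F n) (Submodule.span F {ee (i₁ hk), ff (i₁ hk)}) (act l)}) → g ∈ K from
      fun g hg => hK g ((Subgroup.closure_le K).2 h hg)
    rintro g ((⟨hs, t, ht⟩ | ⟨t, rfl⟩) | ⟨hg, hfix⟩)
    · have hgM : g.2 ∈ 𝔄.M (i₀ hk) :=
        𝔄.transvection_mem_M (by simpa [i₀] using hk) (Or.inl rfl) ht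
      obtain ⟨J, hJ, hJM, hJS⟩ := 𝔄.jointMS (i₀ hk) (i₀ hk) (by simpa [i₀] using hk)
      have : g = (𝔄.μ _ ⟨g.2, hgM⟩, g.2) := hJ.eq (hJS hs) (hJM (𝔄.gM_mem hgM)) fun y => rfl
      rw [this]; exact hKM (𝔄.gM_mem hgM)
    · exact hKM (𝔄.xk_mem hk t)
    · have hgS : g.2 ∈ 𝔄.S (i₁ hk) := (𝔄.memS _ _).2 fun p hp => by
        have key : ∀ z : Vec F n, form F n (ee (i₁ hk)) z = 0 → form F n (ff (i₁ hk)) z = 0 →
            act g z = z := fun z hz hz' => hfix.2.1 z fun w hw => by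
          obtain ⟨a, b, rfl⟩ := Submodule.mem_span_pair.1 hw
          simp [hz, hz']
        constructor <;> refine key _ ?_ ?_ <;> simp [form_ee, form_ff, ee_inl, ee_inr, ff_inl, ff_inr, hp.symm]
      have : g = (𝔄.σ _ ⟨g.2, hgS⟩, g.2) :=
        h1.inj.eq hg (𝔄.gS_le_gen (j := i₁ hk) le_rfl (𝔄.gS_mem hgS)) fun y => rfl
      rw [this]; exact hKS (𝔄.gS_mem hgS)
  Sz_L s hs l hl := by
    suffices h : l ∈ Subgroup.centralizer ({s} : Set (H × SpMat F n)) from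
      (Subgroup.mem_centralizer_singleton_iff.1 h).symm
    refine (Subgroup.closure_le _).2 ?_ hl
    rintro g hg
    refine Subgroup.mem_centralizer_singleton_iff.2 ?_
    have hgen : g ∈ 𝔄.Gen (k + 1) := Subgroup.subset_closure hg
    rcases hg with ⟨j, hj, hg⟩ | ⟨i, hi, hi', hg⟩
    · obtain ⟨K, hK, hK1, hK2⟩ := joint _ _ (𝔄.hSS (i₀ hk) j (Fin.ne_of_val_ne (show k ≠ _ by omega)))
      exact (commute_of_act hK (hK1 hs) (hK2 hg) (𝔄.sz_comm_act hk hs hgen)).symm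
    · obtain ⟨K, hK, hKM, hKS⟩ := 𝔄.jointMS i (i₀ hk) hi'
      exact (commute_of_act hK (hKS hs) (hKM hg) (𝔄.sz_comm_act hk hs hgen)).symm
  x_stab _ hl hle t := 𝔄.xk_stab hk h1 hl hle t

theorem data_Γ (h1 : 𝔄.Level (k + 1)) : (𝔄.data hk h1).Γ = 𝔄.Gen k := by
  set D := 𝔄.data hk h1
  have hiM : (i₀ hk : ℕ) + 1 < n := by simpa [i₀] using hk
  refine le_antisymm ?_ ?_
  · refine (Subgroup.closure_le _).2 ?_
    rintro g ((hg | hg) | ⟨t, rfl⟩)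
    · exact 𝔄.gS_le_gen (j := i₀ hk) le_rfl hg
    · exact 𝔄.gen_anti (Nat.le_succ k) hg
    · exact 𝔄.gM_le_gen (i := i₀ hk) le_rfl hiM (𝔄.xk_mem hk t)
  refine (Subgroup.closure_le _).2 ?_
  rintro g (⟨j, hj, hg⟩ | ⟨i, hi, hi', hg⟩)
  · by_cases h : (j : ℕ) = k
    · rw [show j = i₀ hk from Fin.ext h] at hg
      exact D.sz_le_Γ hg
    · exact D.L_le_Γ (𝔄.gS_le_gen (j := j) (by omega) hg)
  by_cases h : (i : ℕ) = k
  swap
  · exact D.L_le_Γ (𝔄.gM_le_gen (i := i) (by omega) hi' hg)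
  rw [show i = i₀ hk from Fin.ext h] at hg
  have hgM := (𝔄.memM _ hiM _).1 (𝔄.gM_snd hg)
  set p := act g (ff (i₀ hk)) with hp
  set a := p (.inl (i₀ hk))
  set b := p (.inl (i₁ hk))
  set c := act g (ff (i₁ hk)) (.inl (i₁ hk))
  obtain ⟨A, hA, hA'⟩ := 𝔄.root_mem (j := i₀ hk) (Or.inl rfl) a
  obtain ⟨B, hB, hB'⟩ := 𝔄.root_mem (j := i₁ hk) (Or.inl rfl) c
  set prod := 𝔄.xk hk b * (𝔄.σ _ ⟨A, hA⟩, A) * (𝔄.σ _ ⟨B, hB⟩, B) with hprod
  have hprodΓ : prod ∈ D.Γ := mul_mem (mul_mem (D.x_mem_Γ b) (D.sz_le_Γ (𝔄.gS_mem hA)))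
    (D.L_le_Γ (𝔄.gS_le_gen (j := i₁ hk) le_rfl (𝔄.gS_mem hB)))
  suffices e : g = prod by rw [e]; exact hprodΓ
  obtain ⟨K₀, hK₀, hK₀M, hK₀S⟩ := 𝔄.jointMS (i₀ hk) (i₀ hk) hiM
  obtain ⟨K₁, hK₁, hK₁M, hK₁S⟩ := 𝔄.jointMS (i₀ hk) (i₁ hk) hiM
  have hA0 : (𝔄.σ _ ⟨A, hA⟩, A) ∈ 𝔄.GM (i₀ hk) := by
    have hAM : A ∈ 𝔄.M (i₀ hk) := 𝔄.transvection_mem_M (l := i₀ hk) (g := (1, A)) hiM (Or.inl rfl) (t := a) hA'
    rw [hK₀.eq (hK₀S (𝔄.gS_mem hA)) (hK₀M (𝔄.gM_mem hAM)) fun y => rfl]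
    exact 𝔄.gM_mem hAM
  have hB0 : (𝔄.σ _ ⟨B, hB⟩, B) ∈ 𝔄.GM (i₀ hk) := by
    have hBM : B ∈ 𝔄.M (i₀ hk) := 𝔄.transvection_mem_M (l := i₁ hk) (g := (1, B)) hiM (Or.inr rfl) (t := c) hB'
    rw [hK₁.eq (hK₁S (𝔄.gS_mem hB)) (hK₁M (𝔄.gM_mem hBM)) fun y => rfl]
    exact 𝔄.gM_mem hBM
  refine hK₀.eq (hK₀M hg) (hK₀M (mul_mem (mul_mem (𝔄.xk_mem hk b) hA0) hB0)) fun y => ?_
  refine congrArg (fun M : SpMat F n => M.1 *ᵥ y) ?_
  have hne := i₀_ne hk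
  have hcalc : ∀ z, prod.2.1 *ᵥ z = eich (form F n) (ee (i₀ hk)) (b • ee (i₁ hk)) 0
      (eich (form F n) (ee (i₀ hk)) 0 a (eich (form F n) (ee (i₁ hk)) 0 c z)) := fun z => by
    rw [← act_apply, hprod, ρ_mul, ρ_mul, 𝔄.xk_acts]
    simp only [act_apply, hA', hB']
  refine eq_of_basis (fun l => ?_) fun l => ?_
  · show g.2.1 *ᵥ ee l = prod.2.1 *ᵥ ee l
    rw [hgM.1 l, hcalc]
    simp [eich_apply, form_ee, ee_inl, ee_inr, ff_inl, ff_inr]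
  show g.2.1 *ᵥ ff l = prod.2.1 *ᵥ ff l
  rw [hcalc]
  have c0 : ∀ j q : Fin n, (g.2.1 *ᵥ ff j) (.inr q) = (ff j : Vec F n) (.inr q) := fun j q => by
    have h := form_mulVec g.2 (ee q) (ff j)
    rw [hgM.1 q, form_ee, form_ee] at h
    exact h
  have coord' : ∀ j q : Fin n, (q : ℕ) ≠ k → (q : ℕ) ≠ k + 1 → (g.2.1 *ᵥ ff j) (.inl q) = 0 :=
    fun j q h1 h2 => by
    have h := form_mulVec g.2 (ff j) (ff q)
    rw [hgM.2 q h1 h2, form_ff_right, form_ff_right] at h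
    rw [h, ff_inl]
  have cross : (g.2.1 *ᵥ ff (i₁ hk)) (.inl (i₀ hk)) = b := by
    have h := form_mulVec g.2 (ff (i₀ hk)) (ff (i₁ hk))
    rw [form_apply, form_ff, ← Finset.sum_subset (Finset.subset_univ {i₀ hk, i₁ hk}), Finset.sum_pair hne] at h
    · simp [c0, ff_inl, ff_inr, hne, hne.symm] at h
      simp only [b, p, act_apply]
      linear_combination -h
    · intro q _ hq
      simp only [Finset.mem_insert, Finset.mem_singleton, not_or] at hq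
      simp [c0, ff_inl, ff_inr, hq.1, hq.2]
  funext z
  rcases z with q | q
  swap
  · rw [c0 l q]
    simp only [eich_apply, Pi.add_apply, Pi.smul_apply, smul_eq_mul, ee_inr, Pi.zero_apply, mul_zero,
      add_zero]
  by_cases h0 : l = i₀ hk
  · subst h0
    by_cases q0 : q = i₀ hk
    · subst q0; simp [eich_apply, form_ee, ee_inl, ee_inr, ff_inl, ff_inr, hne, hne.symm, a, p, act_apply]
    by_cases q1 : q = i₁ hk
    · subst q1; simp [eich_apply, form_ee, ee_inl, ee_inr, ff_inl, ff_inr, hne, hne.symm, b, p, act_apply]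
    rw [coord' _ q (fun h => q0 (Fin.ext h)) (fun h => q1 (Fin.ext h))]
    simp [eich_apply, form_ee, ee_inl, ee_inr, ff_inl, ff_inr, hne, hne.symm, q0, q1]
  by_cases h1' : l = i₁ hk
  · subst h1'
    by_cases q0 : q = i₀ hk
    · subst q0
      rw [cross]
      simp [eich_apply, form_ee, ee_inl, ee_inr, ff_inl, ff_inr, hne, hne.symm]
    by_cases q1 : q = i₁ hk
    · subst q1; simp [eich_apply, form_ee, ee_inl, ee_inr, ff_inl, ff_inr, hne, hne.symm, c, act_apply]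
    rw [coord' _ q (fun h => q0 (Fin.ext h)) (fun h => q1 (Fin.ext h))]
    simp [eich_apply, form_ee, ee_inl, ee_inr, ff_inl, ff_inr, hne, hne.symm, q0, q1]
  rw [hgM.2 l (fun h => h0 (Fin.ext h)) (fun h => h1' (Fin.ext h))]
  simp [eich_apply, form_ee, ee_inl, ee_inr, ff_inl, ff_inr, Ne.symm h0, Ne.symm h1']

include hk in
theorem level_step (h1 : 𝔄.Level (k + 1)) : 𝔄.Level k := by
  set D := 𝔄.data hk h1 with hD
  have hΓ := 𝔄.data_Γ hk h1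
  have hiM : (i₀ hk : ℕ) + 1 < n := by simpa [i₀] using hk
  refine ⟨hΓ ▸ D.Γ_inj, fun l hl => 𝔄.gen_fix hl, fun g hg => ?_, fun i hi _ l hl hle => ?_⟩
  · rw [← hΓ]
    refine D.Γ_all hg.1 fun y hy0 hy1 hy => hg.2.1 y fun w hw => ?_
    set w' := w - w (.inl (i₀ hk)) • ee (i₀ hk) - w (.inr (i₀ hk)) • ff (i₀ hk) with hw'
    have hw'W : w' ∈ U F n (k + 1) := fun p hp => by
      by_cases h : p = i₀ hk
      · subst h; simp [hw', ee_inl, ee_inr, ff_inl, ff_inr]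
      · have h2 := hw p (by have : (p : ℕ) ≠ k := fun e => h (Fin.ext e); omega)
        simp [hw', ee_inl, ee_inr, ff_inl, ff_inr, h, h2.1, h2.2]
    have e : w = w' + w (.inl (i₀ hk)) • ee (i₀ hk) + w (.inr (i₀ hk)) • ff (i₀ hk) := by rw [hw']; abel
    change form F n w y = 0
    rw [e]
    simp [show form F n w' y = 0 from hy w' hw'W, show form F n (ee (i₀ hk)) y = 0 from hy0,
      show form F n (ff (i₀ hk)) y = 0 from hy1]
  · obtain rfl : i = i₀ hk := Fin.ext hi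
    obtain ⟨v, hv, t, m, hm, rfl⟩ := D.stab_mem_P (hΓ.symm ▸ hl) hle
    have hL : 𝔄.Gen (k + 1) ≤ 𝔄.GM (i₀ hk) ⊔ 𝔄.Gen (k + 1) := le_sup_right
    have hM : 𝔄.GM (i₀ hk) ≤ 𝔄.GM (i₀ hk) ⊔ 𝔄.Gen (k + 1) := le_sup_left
    refine mul_mem (mul_mem ?_ ?_) (hL hm)
    · obtain ⟨l, hl', τ, rfl⟩ := D.L_trans hv
      rw [D.q_eq hl']
      exact mul_mem (mul_mem (hL hl') (hM (𝔄.xk_mem hk τ))) (inv_mem (hL hl'))
    · obtain ⟨K, hK, hKM, hKS⟩ := 𝔄.jointMS (i₀ hk) (i₀ hk) hiM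
      have hcM : (D.c t).2 ∈ 𝔄.M (i₀ hk) := 𝔄.transvection_mem_M hiM (Or.inl rfl) (D.c_acts t)
      rw [show D.c t = (𝔄.μ _ ⟨_, hcM⟩, (D.c t).2) from hK.eq (hKS (D.c_mem t)) (hKM (𝔄.gM_mem hcM)) fun y => rfl]
      exact hM (𝔄.gM_mem hcM)

end

theorem level {k : ℕ} (hk : k < n) : 𝔄.Level k := by
  obtain ⟨d, hd⟩ : ∃ d, k + 1 + d = n := ⟨n - (k + 1), by omega⟩
  clear hk
  induction d generalizing k with
  | zero => exact 𝔄.level_last (by omega)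
  | succ d ih => exact 𝔄.level_step (k := k) (by omega) (ih (k := k + 1) (by omega))

/-- The universal completion. -/
theorem universal (hn : 0 < n) : ∃! Φ : SpMat F n →* H,
    (∀ (j : Fin n) (g : SpMat F n) (hg : g ∈ 𝔄.S j), Φ g = 𝔄.σ j ⟨g, hg⟩) ∧
      ∀ i : Fin n, (i : ℕ) + 1 < n → ∀ (g : SpMat F n) (hg : g ∈ 𝔄.M i), Φ g = 𝔄.μ i ⟨g, hg⟩ := by
  have h0 := 𝔄.level hn
  set π : ↥(𝔄.Gen 0) →* SpMat F n := (MonoidHom.snd _ _).comp (𝔄.Gen 0).subtype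
  have hbij : Function.Bijective π := by
    constructor
    · refine (injective_iff_map_eq_one π).2 fun g hg => Subtype.ext (h0.inj g g.2 fun y => ?_)
      show g.1.2.1 *ᵥ y = y
      rw [show g.1.2 = 1 from hg]; simp
    · intro A
      obtain ⟨l, hl, he⟩ := h0.all (CfsgLib.Sp.toEquiv n F A) (fixIsom_U fun l hl => absurd hl (Nat.not_lt_zero _))
      exact ⟨⟨l, hl⟩, eq_of_mulVec fun y => LinearEquiv.congr_fun he y⟩
  set e := MulEquiv.ofBijective π hbij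
  set Φ : SpMat F n →* H := ((MonoidHom.fst H (SpMat F n)).comp (𝔄.Gen 0).subtype).comp e.symm.toMonoidHom
  have hΦ : ∀ (g : H × SpMat F n) (hg : g ∈ 𝔄.Gen 0), Φ g.2 = g.1 := by
    intro g hg
    have : e.symm g.2 = ⟨g, hg⟩ := (MulEquiv.symm_apply_eq e).2 rfl
    show ((e.symm g.2 : ↥(𝔄.Gen 0)) : H × SpMat F n).1 = g.1
    rw [this]
  refine ⟨Φ, ⟨fun j g hg => hΦ _ (𝔄.gS_le_gen (Nat.zero_le _) (𝔄.gS_mem hg)),
    fun i hi g hg => hΦ _ (𝔄.gM_le_gen (Nat.zero_le _) hi (𝔄.gM_mem hg))⟩, ?_⟩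
  rintro Φ' ⟨hS, hM⟩
  set G : Subgroup (H × SpMat F n) :=
    { carrier := {g | Φ' g.2 = g.1}
      one_mem' := by simp
      mul_mem' := fun {a b} ha hb => by simp_all
      inv_mem' := fun {a} ha => by simp_all }
  have hle : 𝔄.Gen 0 ≤ G := by
    refine (Subgroup.closure_le _).2 ?_
    rintro g (⟨j, -, ⟨⟨A, hA⟩, rfl⟩⟩ | ⟨i, -, hi, ⟨⟨A, hA⟩, rfl⟩⟩)
    · exact hS j A hA
    · exact hM i hi A hA
  refine MonoidHom.ext fun A => ?_
  obtain ⟨⟨g, hg⟩, rfl⟩ := hbij.2 A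
  exact (hle hg).trans (hΦ g hg).symm

end Amalgam

end CfsgLib.SpAmalgam
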